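import Mathlib
import Cfsg.Prelude.Def_DegreeGraph
import Cfsg.Agent.S4560
import Cfsg.Agent.Block.OrdP

/-! The primes 2, 5, 7 divide irreducible character degrees of the alternating group of degree 7. -/

set_option autoImplicit false

namespace Cfsg.Agent.Mix26

open Cfsg Cfsg.Agent.Char Cfsg.Agent.Block

theorem mem_degreePrimes_of_vanish {G : Type*} [Group G] [Finite G] {p : ℕ} (hp : p.Prime)
    (χ : IrrCharacter G) {x : G} (hx : ∃ k : ℕ, orderOf x = p ^ k) (h : χ.1 x = 0) :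
    p ∈ Cfsg.degreePrimes G := by
  obtain ⟨M, hM⟩ := exists_isPModular hp
  have h5 := int_modEq_of_val hM (irr_isChar χ) hx (m := 0) (by simpa using h)
  exact ⟨hp, _, ⟨χ, rfl⟩, Int.natCast_dvd_natCast.1 ((Int.modEq_zero_iff_dvd).1 h5)⟩

open Equiv Equiv.Perm in
theorem a7_cycle {p : ℕ} (hp : p.Prime) (ho : Odd p) (h7 : p ≤ 7) :
    ∃ σ : alternatingGroup (Fin 7), orderOf σ.1 = p ∧ σ.1.cycleType.sum = p := by
  obtain ⟨g, hg⟩ := (exists_with_cycleType_iff (Fin 7) (m := {p})).mpr ⟨by simpa using h7, fun c hc => by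
      rw [Multiset.mem_singleton.1 hc]; exact hp.two_le⟩
  refine ⟨⟨g, mem_alternatingGroup.mpr ?_⟩, ?_, by simp [hg]⟩
  · rw [sign_of_cycleType, hg]
    exact Even.neg_one_pow (by simpa using ho.add_one)
  · rw [← lcm_cycleType, hg]; simp

theorem a7_odd {p : ℕ} (hp : p.Prime) (h : p = 5 ∨ p = 7) :
    p ∈ Cfsg.degreePrimes (alternatingGroup (Fin 7)) := by
  obtain ⟨σ, h1, h2⟩ := a7_cycle hp (by rcases h with rfl | rfl <;> decide) (by omega)
  obtain ⟨χ, h3, -⟩ := S4560.key' (n := 7) (j := 1) le_rfl hp 1 3 6 6 (by norm_num) (by norm_num)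
    (by norm_num) (by norm_num) (by rcases h with rfl | rfl <;> decide) rfl (by norm_num) (by norm_num) σ
    (by rw [h1, pow_one]) (by rw [h2]; have := hp.pos; omega)
  exact mem_degreePrimes_of_vanish hp χ ⟨1, by rw [pow_one, ← h1, Subgroup.orderOf_coe]⟩ h3

theorem a7_primes : ∀ p ∈ ({2, 5, 7} : Set ℕ), p ∈ Cfsg.degreePrimes (alternatingGroup (Fin 7)) := by
  rintro p (rfl | rfl | rfl)
  · obtain ⟨⟨χ, ⟨x, hx, h⟩, -⟩, -⟩ := S4560.result 7 le_rfl
    exact mem_degreePrimes_of_vanish Nat.prime_two χ hx h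
  · exact a7_odd Nat.prime_five (Or.inl rfl)
  · exact a7_odd (by norm_num) (Or.inr rfl)

theorem a7_three : 3 ∈ Cfsg.degreePrimes (alternatingGroup (Fin 7)) := by
  obtain ⟨-, ⟨χ, ⟨x, hx, h⟩, -⟩⟩ := S4560.result 7 le_rfl
  exact mem_degreePrimes_of_vanish Nat.prime_three χ ⟨1, by rw [hx, pow_one]⟩ h

end Cfsg.Agent.Mix26
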