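import Mathlib
import Cfsg.Agent.Inv.Ord8
import Cfsg.Agent.Perm.Small4
import Cfsg.Agent.S0105
import Cfsg.Agent.S0483
import Cfsg.Agent.S0992
import Cfsg.Agent.Classical.SLBasic

/-! No non-abelian simple group has order 1404, 1512, 1800, 2700 or 3600. -/

set_option autoImplicit false

open Subgroup MulAction
open scoped Pointwise

namespace Cfsg.Agent.Mix26

open Cfsg Cfsg.Agent.Perm

variable {G : Type*} [Group G] [Finite G]

theorem d36_sylow_150 {N : Type*} [Group N] [Finite N] [Fact (Nat.Prime 5)] (h : Nat.card N = 150)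
    (P Q : Sylow 5 N) : P = Q := by
  have : Fact (Nat.Prime 2) := ⟨Nat.prime_two⟩
  obtain ⟨T⟩ : Nonempty (Sylow 2 N) := inferInstance
  have h1 : Nat.card T = 2 := sylow_card_eq T (a := 1) (m := 75) h (by norm_num)
  have h2 := IsCyclic.isComplement' (P := T) (by rw [h]; norm_num) (isCyclic_of_prime_card h1)
  set K := (MonoidHom.transferSylow T _).ker
  have h3 : K.index = 2 := h2.symm.index_eq_card.trans h1
  have h4 : ∀ R : Sylow 5 N, (R : Subgroup N) ≤ K := fun R => Core.le_of_coprime_index (by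
    rw [h3, sylow_card_eq R (a := 2) (m := 6) h (by norm_num)]; norm_num)
  have h5 : Nat.card K = 5 ^ 2 * 3 := by
    have := K.card_mul_index
    rw [h3] at this
    omega
  have h6 := Nat.le_of_dvd (by norm_num) (card_sylow_dvd h5 (by norm_num))
  have h8 : Nat.card (Sylow 5 K) % 5 = 1 := card_sylow_modEq_one 5 K
  have h9 : Nat.card (Sylow 5 K) = 1 := by omega
  have := (Nat.card_eq_one_iff_unique.mp h9).1
  exact Sylow.subtype_injective (Subsingleton.elim (P.subtype (h4 P)) (Q.subtype (h4 Q)))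

theorem d36_over [IsSimpleGroup G] [Fact (Nat.Prime 5)] (hG : ¬ IsMulCommutative G)
    (h : Nat.card G = 1800 ∨ Nat.card G = 3600) {P Q : Sylow 5 G} (hne : Q ≠ P) {L : Subgroup G}
    (hL : L ≠ ⊤) (hP : (P : Subgroup G) ≤ L) (hQ : (Q : Subgroup G) ≤ L) :
    Nat.card G = 3600 ∧ Nat.card L = 300 ∧
      Nat.card ↥(normalizer ((P : Subgroup G) : Set G) ⊓ L) = 50 := by
  have hc : Nat.card P = 5 ^ 2 := by
    rcases h with h | h
    · exact sylow_card_eq P (m := 72) h (by norm_num)
    · exact sylow_card_eq P (m := 144) h (by norm_num)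
  have h6 := two_mul_card_dvd_factorial hG L hL
  have h7 : 10 ≤ L.index := by
    by_contra h7
    have := h6.trans (Nat.factorial_dvd_factorial (show L.index ≤ 9 by omega))
    rcases h with h | h <;> rw [h] at this <;> revert this <;> decide
  have h8 := L.card_mul_index
  have h9 := card_sylow_mul (P.subtype hP)
  have h10 : Nat.card (Sylow 5 L) % 5 = 1 := card_sylow_modEq_one 5 L
  have hne' : P.subtype hP ≠ Q.subtype hQ := fun e => hne (Sylow.subtype_injective e).symm
  have h11 : 1 < Nat.card (Sylow 5 L) := Finite.one_lt_card_iff_nontrivial.mpr ⟨_, _, hne'⟩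
  have h12 : Nat.card (normalizer ((P.subtype hP : Subgroup L) : Set L)) =
      Nat.card ↥(normalizer ((P : Subgroup G) : Set G) ⊓ L) := by
    rw [Sylow.coe_subtype, ← subgroupOf_normalizer_eq hP, ← inf_subgroupOf_right,
      Core.card_subgroupOf_of_le inf_le_right]
  obtain ⟨k, hk⟩ : 25 ∣ Nat.card ↥(normalizer ((P : Subgroup G) : Set G) ⊓ L) := by
    have := card_dvd_of_le (le_inf (le_normalizer (H := (P : Subgroup G))) hP)
    rwa [hc] at this
  rw [h12, hk] at h9
  have h13 : k ≠ 0 := by rintro rfl; exact Nat.card_pos.ne' hk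
  have h150 : Nat.card L ≠ 150 := fun e => hne' (d36_sylow_150 e _ _)
  rw [hk]
  generalize Nat.card (Sylow 5 L) = n at *
  generalize Nat.card L = l at *
  generalize L.index = i at *
  generalize Nat.card G = g at *
  have h14 : l ≤ 360 := by rcases h with h | h <;> nlinarith
  have h15 : n * 25 ≤ 360 := by nlinarith [Nat.pos_of_ne_zero h13]
  have h16 : n = 6 ∨ n = 11 := by omega
  rcases h16 with rfl | rfl
  · have : k = 1 ∨ k = 2 := by omega
    rcases this with rfl | rfl
    · omega
    · obtain rfl : l = 300 := by omega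
      omega
  · obtain rfl : k = 1 := by omega
    obtain rfl : l = 275 := by omega
    omega

theorem d36_five [IsSimpleGroup G] (hG : ¬ IsMulCommutative G)
    (h : Nat.card G = 1800 ∨ Nat.card G = 3600) : False := by
  have : Fact (Nat.Prime 5) := ⟨Nat.prime_five⟩
  obtain ⟨P⟩ : Nonempty (Sylow 5 G) := inferInstance
  have hc : ∀ R : Sylow 5 G, Nat.card R = 5 ^ 2 := fun R => by
    rcases h with h | h
    · exact sylow_card_eq R (m := 72) h (by norm_num)
    · exact sylow_card_eq R (m := 144) h (by norm_num)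
  have hcm : ∀ R : Sylow 5 G, IsMulCommutative (R : Subgroup G) := fun R =>
    IsPGroup.isMulCommutative_of_card_eq_prime_sq (hc R)
  have hab : ∀ R : Sylow 5 G, (R : Subgroup G) ≤ centralizer ((R : Subgroup G) : Set G) :=
    fun R => have := hcm R; le_centralizer _
  have h5 : 5 ∣ Nat.card G := by omega
  have h1 := card_sylow_mul P
  have h2 : Nat.card (Sylow 5 G) = 16 ∨ Nat.card (Sylow 5 G) = 36 := by
    have h2 : Nat.card (Sylow 5 G) ∣ 144 := by
      rcases h with h | h
      · exact (card_sylow_dvd (p := 5) (a := 2) (m := 72) h (by norm_num)).trans (by norm_num)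
      · exact card_sylow_dvd (p := 5) (a := 2) (m := 144) h (by norm_num)
    have h3 : Nat.card (Sylow 5 G) % 5 = 1 := card_sylow_modEq_one 5 G
    have h4 : 25 ∣ (Nat.card (Sylow 5 G)).factorial :=
      (show 25 ∣ 2 * Nat.card G by omega).trans (two_mul_card_dvd_factorial_sylow hG h5)
    have h7 := Nat.mem_divisors.mpr ⟨h2, by norm_num⟩
    revert h3 h4
    generalize Nat.card (Sylow 5 G) = n at h7 ⊢
    revert n
    decide +kernel
  obtain ⟨Q, hQ, j, hj, hr⟩ := exists_sylow_relIndex_le P (k := 2) (by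
    rcases h2 with h2 | h2 <;> rw [h2] <;> decide)
  obtain ⟨x, ⟨xP, xQ⟩, x1⟩ : ∃ x ∈ (P : Subgroup G) ⊓ Q, x ≠ 1 := by
    by_contra hx
    have h3 : (Q : Subgroup G) ⊓ P = ⊥ := eq_bot_iff.2 fun y hy => by
      by_contra h4
      exact hx ⟨y, ⟨hy.2, hy.1⟩, h4⟩
    rw [← inf_relIndex_right, h3, relIndex_bot_left, hc] at hr
    have := Nat.pow_right_injective (by norm_num : 2 ≤ 5) hr
    omega
  have z1 : zpowers x ≠ ⊥ := by simpa using x1
  have z2 : zpowers x ≠ ⊤ := fun e => sylow_ne_top hG P (eq_top_iff.2 (e.ge.trans (zpowers_le.2 xP)))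
  have hK := normalizer_ne_top z1 z2
  have hCK : centralizer ({x} : Set G) ≤ normalizer ((zpowers x : Subgroup G) : Set G) := by
    rw [← centralizer_zpowers]; exact centralizer_le_normalizer _
  have hRC : ∀ R : Sylow 5 G, x ∈ (R : Subgroup G) → (R : Subgroup G) ≤ centralizer ({x} : Set G) :=
    fun R hR => (hab R).trans (centralizer_le (Set.singleton_subset_iff.2 hR))
  obtain ⟨g1, c1, n1⟩ := d36_over hG h hQ (fun e => hK (eq_top_iff.2 (e.ge.trans hCK))) (hRC P xP) (hRC Q xQ)
  obtain ⟨-, c2, -⟩ := d36_over hG h hQ hK ((hRC P xP).trans hCK) ((hRC Q xQ).trans hCK)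
  have hE := eq_of_le_of_card_ge hCK (by omega)
  set N := normalizer ((P : Subgroup G) : Set G) with hN
  set C := centralizer ({x} : Set G)
  have hN' : Nat.card (normalizer ((P : Subgroup G) : Set G)) = Nat.card N := rfl
  have n2 : Nat.card N = 100 := by
    have := card_dvd_of_le (inf_le_left : N ⊓ C ≤ N)
    rw [n1] at this
    rcases h2 with h2 | h2 <;> rw [h2] at h1 <;> omega
  have hi : (C.subgroupOf N).index = 2 := by
    have := (C.subgroupOf N).card_mul_index
    rw [← inf_subgroupOf_right, Core.card_subgroupOf_of_le inf_le_right, inf_comm, n1, n2] at this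
    rw [← inf_subgroupOf_right, inf_comm]
    omega
  obtain ⟨n, hn⟩ : ∃ n : N, n ∉ C.subgroupOf N := by
    by_contra h3
    have : C.subgroupOf N = ⊤ := eq_top_iff.2 fun y _ => by_contra fun h4 => h3 ⟨y, h4⟩
    rw [this, index_top] at hi
    omega
  have mC : ∀ g : N, g ∈ C.subgroupOf N ↔ (g : G) * x * (g : G)⁻¹ = x := fun g => by
    rw [mem_subgroupOf, mem_centralizer_singleton_iff, mul_inv_eq_iff_eq_mul]
  have x'P : (n : G) * x * (n : G)⁻¹ ∈ (P : Subgroup G) := (n.2 x).1 xP
  have hcomm : x * ((n : G) * x * (n : G)⁻¹) = (n : G) * x * (n : G)⁻¹ * x := hab P x'P x xP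
  have hy : x * ((n : G) * x * (n : G)⁻¹) ∈ (P : Subgroup G) ⊓ centralizer (N : Set G) := by
    refine ⟨mul_mem xP x'P, fun g hg => ?_⟩
    have a1 := mul_mem_iff_of_index_two hi (a := n⁻¹) (b := ⟨g, hg⟩)
    have a2 := mul_mem_iff_of_index_two hi (a := ⟨g, hg⟩) (b := n)
    have a3 := mul_mem_iff_of_index_two hi (a := n⁻¹) (b := ⟨g, hg⟩ * n)
    rw [inv_mem_iff] at a1 a3
    by_cases hgC : (⟨g, hg⟩ : N) ∈ C.subgroupOf N
    · have b1 := (mC _).1 hgC
      have b2 := (mC _).1 (a3.2 (iff_of_false hn fun e => hn ((a2.1 e).1 hgC)))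
      simp only [coe_mul, coe_inv] at b1 b2
      have b3 : g * ((n : G) * x * (n : G)⁻¹) * g⁻¹ = (n : G) * x * (n : G)⁻¹ := by
        conv_rhs => rw [← b2]
        group
      calc g * (x * ((n : G) * x * (n : G)⁻¹)) = (g * x * g⁻¹) * (g * ((n : G) * x * (n : G)⁻¹) * g⁻¹) * g := by group
        _ = _ := by rw [b1, b3]
    · have b1 := (mC _).1 (a1.2 (iff_of_false hn hgC))
      have b2 := (mC _).1 (a2.2 (iff_of_false hgC hn))
      simp only [coe_mul, coe_inv] at b1 b2
      have b3 : g * x * g⁻¹ = (n : G) * x * (n : G)⁻¹ := by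
        conv_rhs => rw [← b1]
        group
      have b4 : g * ((n : G) * x * (n : G)⁻¹) * g⁻¹ = x := by
        conv_rhs => rw [← b2]
        group
      calc g * (x * ((n : G) * x * (n : G)⁻¹)) = (g * x * g⁻¹) * (g * ((n : G) * x * (n : G)⁻¹) * g⁻¹) * g := by group
        _ = _ := by rw [b3, b4, hcomm]
  obtain ⟨M, hM, ⟨e⟩⟩ := S0105.result P (hcm P)
  have hcard := Nat.card_congr e.toEquiv
  have hle := card_le_of_le (inf_le_left : (P : Subgroup G) ⊓ centralizer (N : Set G) ≤ P)
  rw [hc] at hle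
  have hone : Nat.card ↥((P : Subgroup G) ⊓ centralizer (N : Set G)) = 1 := by
    have e2 : Nat.card (G ⧸ M) = Nat.card ↥((P : Subgroup G) ⊓ centralizer (N : Set G)) := hcard
    rcases hM.eq_bot_or_eq_top with rfl | rfl
    · rw [← index_eq_card, index_bot] at e2; omega
    · rw [← index_eq_card, index_top] at e2; omega
  rw [card_eq_one] at hone
  rw [hone, mem_bot] at hy
  have hx' : (n : G) * x * (n : G)⁻¹ = x⁻¹ := (eq_inv_of_mul_eq_one_right hy)
  refine hn (mem_subgroupOf.2 (hE.ge ?_))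
  refine mem_normalizer_fintype ?_
  rintro _ ⟨k, rfl⟩
  show (n : G) * x ^ k * (n : G)⁻¹ ∈ zpowers x
  rw [← conj_zpow, hx']
  exact zpow_mem (inv_mem (mem_zpowers x)) k

theorem d36_four [IsSimpleGroup G] (hG : ¬ IsMulCommutative G)
    (h : Nat.card G = 1404 ∨ Nat.card G = 2700) : False := by
  obtain ⟨S⟩ : Nonempty (Sylow 2 G) := inferInstance
  obtain ⟨h4, -⟩ := S0992.result hG (by rcases h with h | h <;> rw [h] <;> decide) (by omega) S
  have : Group.IsPerfect G := ⟨(inferInstance : (commutator G).Normal).eq_bot_or_eq_top.resolve_left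
    fun e => hG ((commutator_eq_bot_iff G).1 e)⟩
  have hO : oddCore G = ⊥ := (inferInstance : (oddCore G).Normal).eq_bot_or_eq_top.resolve_right fun e => by
    have := Inv.odd_card_oddCore (G := G)
    rw [e, card_top] at this
    rcases h with h | h <;> rw [h] at this <;> exact absurd this (by decide)
  have h1 : Nat.card (G ⧸ oddCore G) = Nat.card G := by rw [← index_eq_card, hO, index_bot]
  rcases S0483.result S 2 le_rfl IsKleinFour.nonempty_mulEquiv with ⟨F, _, _, h2, h3, ⟨f⟩⟩ | ⟨⟨f⟩⟩
  · have h4 := Classical.SLBasic.card_PSL_two (F := F)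
    rw [← Nat.card_congr f.toEquiv, h1, Nat.card_eq_fintype_card (α := F)] at h4
    generalize Fintype.card F = q at h2 h3 h4
    have h5 : q < 30 := by
      by_contra h5
      have h6 : Nat.gcd 2 (q - 1) ≤ 2 := Nat.gcd_le_left _ (by norm_num)
      have h7 : 30 ^ 2 - 1 ≤ q ^ 2 - 1 := Nat.sub_le_sub_right (Nat.pow_le_pow_left (by omega) 2) 1
      have h8 := Nat.mul_le_mul (not_lt.1 h5) h7
      rcases h with h | h <;> rw [h] at h4 <;> omega
    rcases h with h | h <;> rw [h] at h4 <;> interval_cases q <;> simp at h4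
  · have := Nat.card_congr f.toEquiv
    rw [h1, nat_card_alternatingGroup] at this
    simp [Nat.factorial] at this
    omega

theorem d36_eight [IsSimpleGroup G] (hG : ¬ IsMulCommutative G) (h : Nat.card G = 1512) : False := by
  obtain ⟨S⟩ : Nonempty (Sylow 2 G) := inferInstance
  rcases Inv.eight_known hG S (Inv.card_sylow_eight S (m := 189) h (by decide)) (fun _ t ht =>
      Inv.solvable_cent ht (n := 756) (by norm_num) (by norm_num) (by norm_num) (by norm_num)
        ((card_subgroup_dvd_card _).trans (by rw [h]))) with ⟨F, _, _, -, h1⟩ | ⟨⟨f⟩⟩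
  · rw [h] at h1
    generalize Fintype.card F = q at h1
    rcases h1 with h1 | h1 <;> have := Inv.cube_eq h1 (by norm_num) <;> interval_cases q <;> simp at h1
  · have := Nat.card_congr f.toEquiv
    rw [h, nat_card_alternatingGroup] at this
    simp [Nat.factorial] at this

theorem ne_five {G : Type*} [Group G] [Finite G] [IsSimpleGroup G] (hG : ¬ IsMulCommutative G) :
    Nat.card G ≠ 1404 ∧ Nat.card G ≠ 1512 ∧ Nat.card G ≠ 1800 ∧ Nat.card G ≠ 2700 ∧ Nat.card G ≠ 3600 :=
  ⟨fun h => d36_four hG (Or.inl h), d36_eight hG, fun h => d36_five hG (Or.inl h),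
    fun h => d36_four hG (Or.inr h), fun h => d36_five hG (Or.inr h)⟩

end Cfsg.Agent.Mix26
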