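import Mathlib
import Cfsg.Prelude.Def_DegreeGraph
import Cfsg.Agent.Core.SylowOf
import Cfsg.Agent.Core.MinNormal
import Cfsg.Agent.Char.Extend
import Cfsg.Agent.Char.Clifford
import Cfsg.Agent.Char.Central
import Cfsg.Agent.Transfer.SylowConj
import Cfsg.Agent.Block.Height
import Cfsg.Agent.Perm.Small

/-! Groups whose order has a large prime to the first power. -/

set_option autoImplicit false

namespace Cfsg.Agent.Mix26.DG

open Cfsg.Agent.Core Cfsg.Agent.Char Cfsg.Agent.Block Subgroup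
open scoped Pointwise commutatorElement IsMulCommutative

universe u

/-- a normal abelian subgroup of order `m` -/
def NA (H : Type*) [Group H] (m : ℕ) : Prop :=
  ∃ A : Subgroup H, A.Normal ∧ IsMulCommutative A ∧ Nat.card A = m

/-- some irreducible degree is divisible by `m` -/
def W (H : Type*) [Group H] (m : ℕ) : Prop := ∃ d ∈ charDegrees H, m ∣ d

variable {H : Type*} [Group H] [Finite H]

theorem W.of_normal {K : Subgroup H} [K.Normal] {m : ℕ} (h : W K m) : W H m := by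
  have := Fintype.ofFinite H
  have := Fintype.ofFinite K
  obtain ⟨d, ⟨θ, rfl⟩, hd⟩ := h
  obtain ⟨χ, hχ, h1⟩ := Clifford.exists_over (N := K) θ.2
  obtain ⟨e, he⟩ := classInner_isChar_nat (isChar_res K (isIrr_isChar hχ)) (irr_isChar θ)
  have h2 := Clifford.degree_eq hχ θ.2 h1
  refine ⟨_, ⟨⟨χ, hχ⟩, rfl⟩, hd.trans ?_⟩
  rw [he, ← irr_degree_cast] at h2
  change _ ∣ charDegree χ
  rw [charDegree_of_eq (χ := χ) (n := e * ((Clifford.inertia K θ.1).index * charDegree θ.1))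
    (by rw [h2]; push_cast; rfl)]
  exact Dvd.intro_left _ (mul_assoc _ _ _)

omit [Finite H] in
theorem W.of_surj {Q : Type*} [Group Q] (f : H →* Q) (hf : Function.Surjective f) {m : ℕ} (h : W Q m) :
    W H m := by
  obtain ⟨d, ⟨θ, rfl⟩, hd⟩ := h
  exact ⟨_, ⟨⟨_, isIrr_comp_surjective f hf θ.2⟩, rfl⟩, by simpa [charDegree] using hd⟩

theorem NA.not_W {m s : ℕ} (h : NA H m) (hs : ¬ s ∣ Nat.card H / m) : ¬ W H s := by
  obtain ⟨A, hA, hc, rfl⟩ := h
  rintro ⟨d, ⟨χ, rfl⟩, hd⟩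
  refine hs (hd.trans ?_)
  rw [← A.card_mul_index, Nat.mul_div_cancel_left _ Nat.card_pos]
  exact Extend.degree_dvd_index_of_comm A χ.2 (irr_degree_cast χ).symm

theorem not_W_zero : ¬ W H 0 := by
  rintro ⟨d, ⟨χ, rfl⟩, hd⟩
  exact Nat.card_pos.ne' (zero_dvd_iff.1 (hd.trans (irr_degree_dvd χ)))

theorem sylow_of_card {s k : ℕ} (hs : s.Prime) (hk : ¬ s ^ (k + 1) ∣ Nat.card H) {A K : Subgroup H} (hAK : A ≤ K)
    (hA : Nat.card A = s ^ k) : IsSylowOf s A K := by
  refine ⟨hAK, IsPGroup.of_card hA, fun h => hk ?_⟩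
  refine Dvd.dvd.trans ?_ (card_subgroup_dvd_card K)
  rw [← card_mul_relIndex hAK, hA, pow_succ]
  exact Nat.mul_dvd_mul_left _ h

theorem normal_of_sylow {s : ℕ} (hs : s.Prime) {A K : Subgroup H} [K.Normal] (h : IsSylowOf s A K)
    (hn : K ≤ normalizer (A : Set H)) : A.Normal := by
  have := Fact.mk hs
  rw [← normalizer_eq_top_iff, ← h.frattini_top, sup_of_le_right hn]

theorem NA.up {s k : ℕ} (hs : s.Prime) (hk : ¬ s ^ (k + 1) ∣ Nat.card H) {K : Subgroup H} [K.Normal]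
    (h : NA K (s ^ k)) : NA H (s ^ k) := by
  obtain ⟨A, hA, hc, hA'⟩ := h
  have h1 : Nat.card (A.map K.subtype) = s ^ k := by rw [card_map_of_injective (subtype_injective _), hA']
  exact ⟨A.map K.subtype, normal_of_sylow hs (sylow_of_card hs hk (map_subtype_le A) h1)
    (le_normalizer_map_subtype_of_normal K A), inferInstance, h1⟩

/-- lifting from a quotient by a subgroup centralised by the `s`-elements -/
theorem NA.lift {s k : ℕ} (hs : s.Prime) (hk : ¬ s ^ (k + 1) ∣ Nat.card H) {M : Subgroup H} [M.Normal]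
    (h : NA (H ⧸ M) (s ^ k))
    (hM : ∀ Q : Subgroup H, Nat.card Q = s ^ k → M ≤ centralizer (Q : Set H)) : NA H (s ^ k) := by
  have := Fact.mk hs
  obtain ⟨A, hA, hc, hA'⟩ := h
  let B := A.comap (QuotientGroup.mk' M)
  have hMB : M ≤ B := fun x hx => by
    change QuotientGroup.mk' M x ∈ A
    rw [QuotientGroup.mk'_apply, (QuotientGroup.eq_one_iff x).2 hx]; exact A.one_mem
  have hB : M.relIndex B = s ^ k := by
    have := relIndex_ker B (QuotientGroup.mk' M)
    rw [QuotientGroup.ker_mk', map_comap_eq_self_of_surjective (QuotientGroup.mk'_surjective M)] at this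
    rw [this, hA']
  obtain ⟨Q, hQ⟩ := exists_isSylowOf s B
  have h1 := hQ.sup_eq_of_relIndex_eq_pow hMB hB
  have h2 : s ^ k ∣ Nat.card B := by rw [← card_mul_relIndex hMB, hB]; exact Dvd.intro_left _ rfl
  have h3 : Nat.card Q = s ^ k := by
    rw [hQ.card_eq_pow]
    congr 1
    refine le_antisymm ?_ ((hs.pow_dvd_iff_le_factorization Nat.card_pos.ne').1 h2)
    by_contra h
    exact hk (((hs.pow_dvd_iff_le_factorization Nat.card_pos.ne').2 (by omega)).trans (card_subgroup_dvd_card B))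
  have h4 : Q ⊓ M = ⊥ := by
    refine inf_eq_bot_of_coprime ?_
    rw [h3]
    refine Nat.Coprime.pow_left _ (hs.coprime_iff_not_dvd.2 fun h => hk ?_)
    refine Dvd.dvd.trans ?_ (card_subgroup_dvd_card B)
    rw [← card_mul_relIndex hMB, hB, pow_succ']
    exact Nat.mul_dvd_mul_right h _
  refine ⟨Q, normal_of_sylow hs hQ ?_, isMulCommutative_of_forall fun x hx y hy => ?_, h3⟩
  · rw [← h1]
    exact sup_le ((hM Q h3).trans (centralizer_le_normalizer _)) le_normalizer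
  · have h5 : ⁅x, y⁆ ∈ Q ⊓ M := by
      refine mem_inf.2 ⟨by
        rw [commutatorElement_def]; exact mul_mem (mul_mem (mul_mem hx hy) (inv_mem hx)) (inv_mem hy), ?_⟩
      rw [← QuotientGroup.eq_one_iff, ← QuotientGroup.mk'_apply, map_commutatorElement,
        commutatorElement_eq_one_iff_mul_comm]
      exact comm_of_isMulCommutative hc (hQ.le hx) (hQ.le hy)
    rw [h4, mem_bot] at h5
    exact commutatorElement_eq_one_iff_mul_comm.1 h5

/-- an invariant Sylow subgroup is centralised, unless the arithmetic allows an action -/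
theorem exists_sylow_cent {r s : ℕ} (hr : r.Prime) (hs : s.Prime) (hsr : s ≠ r) {R M : Subgroup H}
    (hR : Nat.card R = r) (hRM : R ≤ normalizer (M : Set H)) (hM : ¬ r ∣ Nat.card M) :
    ∃ P : Subgroup H, IsSylowOf s P M ∧ R ≤ normalizer (P : Set H) ∧ (P ≤ centralizer (R : Set H) ∨
      ∃ j, 1 ≤ j ∧ s ^ j * Nat.card (P ⊓ centralizer (R : Set H) :) = Nat.card P ∧ s ^ j % r = 1) := by
  have := Fact.mk hr
  have := Fact.mk hs
  have hp : IsPGroup r R := IsPGroup.of_card (n := 1) (by rw [hR, pow_one])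
  have : IsCyclic R := isCyclic_of_prime_card hR
  obtain ⟨P, hP, h1⟩ := exists_invariant_isSylowOf R M hRM (hR ▸ hr.coprime_iff_not_dvd.2 hM)
    (Or.inl inferInstance) s
  refine ⟨P, hP, h1, ?_⟩
  have h2 := Transfer.card_modEq_card_inf_centralizer hp h1
  obtain ⟨a, ha⟩ := hP.isPGroup.exists_card_eq
  obtain ⟨b, hb, hb'⟩ := (Nat.dvd_prime_pow hs).1 (ha ▸ card_dvd_of_le (inf_le_left : P ⊓ centralizer (R : Set H) ≤ P))
  rcases hb.eq_or_lt with rfl | hb
  · left
    exact inf_eq_left.1 (eq_of_le_of_card_ge inf_le_left (by rw [ha, hb']))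
  · right
    refine ⟨a - b, by omega, by rw [hb', ha, ← pow_add]; congr 1; omega, ?_⟩
    rw [ha, hb', show a = a - b + b by omega, pow_add] at h2
    have h3 : s ^ (a - b) ≡ 1 [MOD r] := by
      refine Nat.ModEq.cancel_right_of_coprime (c := s ^ b) ?_ (by rwa [one_mul])
      exact Nat.Coprime.pow_right _ ((Nat.coprime_primes hr hs).2 hsr.symm)
    rw [Nat.ModEq, Nat.mod_eq_of_lt hr.one_lt] at h3
    exact h3

theorem exists_card_prime {r : ℕ} (hr : r.Prime) (h : r ∣ Nat.card H) : ∃ R : Subgroup H, Nat.card R = r := by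
  have := Fact.mk hr
  simpa using Sylow.exists_subgroup_card_pow_prime (G := H) (n := 1) r (by simpa using h)

/-- a minimal normal `r'`-subgroup is centralised or is a full elementary abelian Sylow subgroup -/
theorem cent_or {r q k : ℕ} (hr : r.Prime) {E : Prop} {M : Subgroup H} [M.Normal] (hM0 : M ≠ ⊥)
    (hmin : ∀ L : Subgroup H, L.Normal → L ≤ M → L = ⊥ ∨ L = M) (hM : ¬ r ∣ Nat.card M)
    (har : ∀ s j, s.Prime → s ≠ r → 1 ≤ j → s ^ j ∣ Nat.card M → s ^ j % r = 1 →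
      E ∧ s = q ∧ j = k ∧ Group.IsSolvable M) (hk : ¬ q ^ (k + 1) ∣ Nat.card H)
    {R : Subgroup H} (hR : Nat.card R = r) : M ≤ centralizer (R : Set H) ∨ E ∧ NA H (q ^ k) := by
  by_contra! hc
  refine hc.1 (le_of_forall_isSylowOf_le _ _ fun s hs hsM => ?_)
  have hsr : s ≠ r := fun h => hM (h ▸ hsM)
  obtain ⟨P, hP, -, h | ⟨j, h1, h2, h3⟩⟩ := exists_sylow_cent hr hs hsr hR (M := M)
    (by rw [normalizer_eq_top]; exact le_top) hM
  · exact ⟨P, hP, h⟩
  have h4 : s ^ j ∣ Nat.card M := (Dvd.intro _ h2).trans (card_dvd_of_le hP.le)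
  obtain ⟨hE, rfl, rfl, hsol⟩ := har s j hs hsr h1 h4 h3
  obtain ⟨t, ht, he⟩ := minimal_normal_elementary M hsol hM0 hmin
  have := Fact.mk ht
  obtain ⟨a, ha⟩ := (IsElementaryAbelian.isPGroup he).exists_card_eq
  obtain rfl : s = t := (Nat.prime_dvd_prime_iff_eq hs ht).1 (hs.dvd_of_dvd_pow (ha ▸ hsM))
  refine (hc.2 hE ⟨M, inferInstance, he.1, ?_⟩).elim
  rw [ha] at h4 ⊢
  congr 1
  refine le_antisymm ?_ ((Nat.pow_dvd_pow_iff_le_right hs.one_lt).1 h4)
  by_contra h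
  exact hk ((pow_dvd_pow s (by omega)).trans (ha ▸ card_subgroup_dvd_card M))

theorem main {n r q k m : ℕ} (hn : n ≠ 0) (hr : r.Prime) (hq : q.Prime) {E : Prop} (hr2 : ¬ r ^ (1 + 1) ∣ n)
    (hk : ¬ q ^ (k + 1) ∣ n)
    (har : ∀ s j, s.Prime → s ≠ r → 1 ≤ j → s ^ j ∣ n → s ^ j % r = 1 →
      E ∧ s = q ∧ j = k ∧ ∃ a b, n ∣ r * (2 ^ a * 3 ^ b))
    (hs : ∀ (T : Type u) [Group T] [Finite T] [IsSimpleGroup T], ¬ IsMulCommutative T → Nat.card T ∣ n →
      r ∣ Nat.card T → Nat.card T ≠ n → W T m) (G : Type u) [Group G] [Finite G] :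
    Nat.card G ∣ n → r ∣ Nat.card G → ¬ (IsSimpleGroup G ∧ Nat.card G = n) →
      NA G (r ^ 1) ∨ E ∧ NA G (q ^ k) ∨ W G m := by
  refine induction_on_card (P := fun G _ _ => Nat.card G ∣ n → r ∣ Nat.card G →
    ¬ (IsSimpleGroup G ∧ Nat.card G = n) → NA G (r ^ 1) ∨ E ∧ NA G (q ^ k) ∨ W G m) ?_ G
  intro G _ _ ih h1 h2 h3
  have hle := Nat.le_of_dvd (Nat.pos_of_ne_zero hn) h1
  have hr2' : ¬ r ^ (1 + 1) ∣ Nat.card G := fun h => hr2 (h.trans h1)
  have hk' : ¬ q ^ (k + 1) ∣ Nat.card G := fun h => hk (h.trans h1)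
  by_cases hsim : IsSimpleGroup G
  · by_cases hc : IsMulCommutative G
    · left
      refine ⟨⊤, inferInstance, inferInstance, ?_⟩
      rw [card_top, pow_one]
      exact ((Nat.prime_dvd_prime_iff_eq hr (IsSimpleGroup.prime_card (α := G))).1 h2).symm
    · exact Or.inr (Or.inr (hs G hc h1 h2 fun h => h3 ⟨hsim, h⟩))
  have : Nontrivial G := Finite.one_lt_card_iff_nontrivial.1 (hr.one_lt.trans_le (Nat.le_of_dvd Nat.card_pos h2))
  obtain ⟨N, hN, hN1, hN2⟩ : ∃ N : Subgroup G, N.Normal ∧ N ≠ ⊥ ∧ N ≠ ⊤ := by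
    by_contra! h
    exact hsim ⟨fun N hN => or_iff_not_imp_left.2 (h N hN)⟩
  obtain ⟨M, hM, hM0, hMN, hmin⟩ := exists_minimal_normal_le N hN1
  have up : ∀ K : Subgroup G, K.Normal → K ≠ ⊤ → r ∣ Nat.card K →
      NA G (r ^ 1) ∨ E ∧ NA G (q ^ k) ∨ W G m := fun K hK hK1 hK2 => by
    have h4 := card_lt_of_ne_top K hK1
    rcases ih K h4 ((card_subgroup_dvd_card K).trans h1) hK2 (fun h => by omega) with h | ⟨hE, h⟩ | h
    exacts [Or.inl (h.up hr hr2'), Or.inr (Or.inl ⟨hE, h.up hq hk'⟩), Or.inr (Or.inr h.of_normal)]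
  by_cases hrM : r ∣ Nat.card M
  · exact up M hM (fun h => hN2 (top_le_iff.1 (h ▸ hMN))) hrM
  obtain ⟨R, hR⟩ := exists_card_prime hr h2
  have hMn := (card_subgroup_dvd_card M).trans h1
  rcases cent_or (E := E) (q := q) (k := k) hr hM0 hmin hrM (fun s j a b c d e => by
    obtain ⟨f1, f2, f3, x, y, f4⟩ := har s j a b c (d.trans hMn) e
    exact ⟨f1, f2, f3, burnside_of_dvd Nat.prime_two Nat.prime_three
      ((hr.coprime_iff_not_dvd.2 hrM).symm.dvd_of_dvd_mul_left (hMn.trans f4))⟩) hk' hR with h | h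
  swap
  · exact Or.inr (Or.inl h)
  by_cases hC : centralizer (M : Set G) = ⊤
  swap
  · exact up _ inferInstance hC (hR ▸ card_dvd_of_le (le_centralizer_iff.1 h))
  have hZ : ∀ Q : Subgroup G, M ≤ centralizer (Q : Set G) := fun Q => le_centralizer_iff.1 (hC ▸ le_top)
  have h4 := card_quotient_lt M hM0
  have h5 := M.card_mul_index
  rw [index_eq_card] at h5
  rcases ih (G ⧸ M) h4 ((Dvd.intro_left _ h5).trans h1) ((hr.dvd_mul.1 (h5 ▸ h2)).resolve_left hrM)
    (fun h => by omega) with h | ⟨hE, h⟩ | h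
  exacts [Or.inl (h.lift hr hr2' fun Q _ => hZ Q), Or.inr (Or.inl ⟨hE, h.lift hq hk' fun Q _ => hZ Q⟩),
    Or.inr (Or.inr (h.of_surj _ (QuotientGroup.mk'_surjective M)))]

end Cfsg.Agent.Mix26.DG
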