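import Mathlib
import Cfsg.Agent.Mix26.DG1

/-! Non-simple groups of order dividing `2520`. -/

set_option autoImplicit false

namespace Cfsg.Agent.Mix26.DG

open Cfsg.Agent.Core Cfsg.Agent.Char Cfsg.Agent.Block Subgroup
open scoped Pointwise commutatorElement IsMulCommutative

universe u

theorem ar_gen {n r : ℕ} (hn : n ≠ 0) {C : ℕ → ℕ → Prop}
    (h : ∀ s ∈ n.primeFactorsList, ∀ j ∈ List.range 13, s ≠ r → 1 ≤ j → s ^ j ∣ n → s ^ j % r = 1 → C s j)
    (hlt : n < 2 ^ 13) : ∀ s j, s.Prime → s ≠ r → 1 ≤ j → s ^ j ∣ n → s ^ j % r = 1 → C s j := by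
  intro s j hs h1 h2 h3 h4
  refine h s ((Nat.mem_primeFactorsList hn).2 ⟨hs, (dvd_pow_self s (by omega)).trans h3⟩) j (List.mem_range.2 ?_)
    h1 h2 h3 h4
  have := (Nat.le_of_dvd (Nat.pos_of_ne_zero hn) h3).trans_lt hlt
  exact (Nat.pow_lt_pow_iff_right one_lt_two).1 ((Nat.pow_le_pow_left hs.two_le j).trans_lt this)

variable {H : Type*} [Group H] [Finite H]

/-- an `r`-element centralises an `r'`-subgroup it normalises when the arithmetic forbids an action -/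
theorem cent_all {r : ℕ} (hr : r.Prime) {R M : Subgroup H} (hR : Nat.card R = r)
    (hRM : R ≤ normalizer (M : Set H)) (hM : ¬ r ∣ Nat.card M)
    (har : ∀ s j, s.Prime → s ≠ r → 1 ≤ j → s ^ j ∣ Nat.card M → s ^ j % r = 1 → False) :
    M ≤ centralizer (R : Set H) := by
  refine le_of_forall_isSylowOf_le _ _ fun s hs hsM => ?_
  have hsr : s ≠ r := fun h => hM (h ▸ hsM)
  obtain ⟨P, hP, -, h | ⟨j, h1, h2, h3⟩⟩ := exists_sylow_cent hr hs hsr hR hRM hM
  · exact ⟨P, hP, h⟩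
  · exact (har s j hs hsr h1 ((Dvd.intro _ h2).trans (card_dvd_of_le hP.le)) h3).elim

theorem ar5 : ∀ s j, s.Prime → s ≠ 5 → 1 ≤ j → s ^ j ∣ 2520 → s ^ j % 5 = 1 → False :=
  ar_gen (C := fun _ _ => False) (by norm_num) (by decide +kernel) (by norm_num)

theorem ar7 : ∀ s j, s.Prime → s ≠ 7 → 1 ≤ j → s ^ j ∣ 2520 → s ^ j % 7 = 1 → s = 2 ∧ j = 3 :=
  ar_gen (C := fun s j => s = 2 ∧ j = 3) (by norm_num) (by decide +kernel) (by norm_num)

variable (ho : ∀ (T : Type u) [Group T] [Finite T] [IsSimpleGroup T], ¬ IsMulCommutative T → Nat.card T ∣ 2520 →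
  Nat.card T = 60 ∨ Nat.card T = 168 ∨ Nat.card T = 360 ∨ Nat.card T = 504 ∨ Nat.card T = 2520)
include ho

theorem na5 (K : Type u) [Group K] [Finite K] (h1 : Nat.card K ∣ 2520) (h2 : 5 ∣ Nat.card K)
    (h3 : ¬ 4 ∣ Nat.card K) : NA K (5 ^ 1) := by
  have h4 : Nat.card K ∣ 630 := (by decide +kernel : ∀ n ≤ 2520, n ∣ 2520 → ¬ 4 ∣ n → n ∣ 630) _
    (Nat.le_of_dvd (by norm_num) h1) h1 h3
  have := main (n := 630) (r := 5) (q := 5) (k := 1) (m := 0) (E := False) (by norm_num) (by norm_num)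
    (by norm_num) (by norm_num) (by norm_num) (fun s j a b c d e => (ar5 s j a b c (d.trans (by norm_num)) e).elim)
    (fun T _ _ _ a b c d => by
      rcases ho T a (b.trans (by norm_num)) with h | h | h | h | h <;> rw [h] at b c <;> omega) K h4 h2 (fun ⟨a, b⟩ => by
      have := ho K (Perm.not_comm_of_not_prime (by rw [b]; norm_num)) h1
      omega)
  exact this.resolve_right fun h => h.elim (fun h => h.1) not_W_zero

theorem na7 (K : Type u) [Group K] [Finite K] (h1 : Nat.card K ∣ 2520) (h2 : 7 ∣ Nat.card K)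
    (h3 : ¬ 8 ∣ Nat.card K) : NA K (7 ^ 1) := by
  have h4 : Nat.card K ∣ 1260 := (by decide +kernel : ∀ n ≤ 2520, n ∣ 2520 → ¬ 8 ∣ n → n ∣ 1260) _
    (Nat.le_of_dvd (by norm_num) h1) h1 h3
  have := main (n := 1260) (r := 7) (q := 7) (k := 1) (m := 0) (E := False) (by norm_num) (by norm_num)
    (by norm_num) (by norm_num) (by norm_num) (fun s j a b c d e => by
      obtain ⟨rfl, rfl⟩ := ar7 s j a b c (d.trans (by norm_num)) e
      norm_num at d)
    (fun T _ _ _ a b c d => by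
      rcases ho T a (b.trans (by norm_num)) with h | h | h | h | h <;> rw [h] at b c <;> omega) K h4 h2 (fun ⟨a, b⟩ => by
      have := ho K (Perm.not_comm_of_not_prime (by rw [b]; norm_num)) h1
      omega)
  exact this.resolve_right fun h => h.elim (fun h => h.1) not_W_zero

theorem cent7 {G : Type u} [Group G] [Finite G] (h1 : Nat.card G ∣ 2520) {M R : Subgroup G} [M.Normal]
    (h5 : 5 ∣ Nat.card M) (h7 : ¬ 7 ∣ Nat.card M) (hR : Nat.card R = 7) :
    M ≤ centralizer (R : Set G) ∨ NA G (5 ^ 1) := by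
  have hMn := (card_subgroup_dvd_card M).trans h1
  have hN : R ≤ normalizer (M : Set G) := by rw [normalizer_eq_top]; exact le_top
  have hp : Nat.Prime 7 := by norm_num
  have : IsCyclic R := isCyclic_of_prime_card (hp := ⟨hp⟩) hR
  obtain ⟨P, hP, hRP, h | ⟨j, a1, a2, a3⟩⟩ := exists_sylow_cent hp Nat.prime_two (by norm_num) hR hN h7
  · left
    refine le_of_forall_isSylowOf_le _ _ fun s hs hsM => ?_
    by_cases hs2 : s = 2
    · exact ⟨P, hs2 ▸ hP, h⟩
    have hsr : s ≠ 7 := fun h => h7 (h ▸ hsM)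
    obtain ⟨Q, hQ, -, h | ⟨j, b1, b2, b3⟩⟩ := exists_sylow_cent hp hs hsr hR hN h7
    · exact ⟨Q, hQ, h⟩
    · exact (hs2 (ar7 s j hs hsr b1 ((Dvd.intro _ b2).trans ((card_dvd_of_le hQ.le).trans hMn)) b3).1).elim
  right
  have := Fact.mk Nat.prime_two
  have := Fact.mk Nat.prime_five
  obtain ⟨-, rfl⟩ := ar7 2 j Nat.prime_two (by norm_num) a1
    ((Dvd.intro _ a2).trans ((card_dvd_of_le hP.le).trans hMn)) a3
  let C := M ⊓ centralizer (R : Set G)
  have hco : (Nat.card R).Coprime (Nat.card M) := hR ▸ hp.coprime_iff_not_dvd.2 h7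
  have hC2 : ¬ 2 ∣ Nat.card C := by
    intro h
    have b1 := (IsSylowOf.inf_centralizer R M hN hco (Or.inl inferInstance) hP hRP).ne_bot h
    obtain ⟨a, ha⟩ := (hP.isPGroup.to_inf_left (K := centralizer (R : Set G))).exists_card_eq
    have b2 : 2 ^ 3 * 2 ^ a ∣ 2520 := by rw [← ha, a2]; exact (card_dvd_of_le hP.le).trans hMn
    rcases a with _ | a
    · exact b1 (card_eq_one.1 ha)
    · exact absurd ((mul_dvd_mul_left _ (dvd_pow_self 2 a.succ_ne_zero)).trans b2) (by norm_num)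
  have key : ∀ s : ℕ, s.Prime → s ≠ 2 → s ≠ 7 → ∃ Q, IsSylowOf s Q M ∧ Q ≤ C := fun s hs s2 s7 => by
    obtain ⟨Q, hQ, -, h | ⟨j, b1, b2, b3⟩⟩ := exists_sylow_cent hp hs s7 hR hN h7
    · exact ⟨Q, hQ, le_inf hQ.le h⟩
    · exact (s2 (ar7 s j hs s7 b1 ((Dvd.intro _ b2).trans ((card_dvd_of_le hQ.le).trans hMn)) b3).1).elim
  have hi : ∀ s : ℕ, s.Prime → s ≠ 2 → ¬ s ∣ C.relIndex M := fun s hs s2 h => by
    by_cases s7 : s = 7
    · exact h7 (s7 ▸ h.trans (relIndex_dvd_card _ _))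
    obtain ⟨Q, hQ, hQC⟩ := key s hs s2 s7
    exact hQ.not_dvd (h.trans (relIndex_dvd_of_le_left _ hQC))
  have hCM := card_mul_relIndex (inf_le_left : C ≤ M)
  have h5C : 5 ∣ Nat.card C := (Nat.prime_five.dvd_mul.1 (hCM ▸ h5)).resolve_right (hi 5 Nat.prime_five (by norm_num))
  obtain ⟨A, hA, hAc, hA5⟩ := na5 ho C ((card_subgroup_dvd_card C).trans h1) h5C (by omega)
  have hk : ¬ 5 ^ (1 + 1) ∣ Nat.card G := fun h => absurd (h.trans h1) (by norm_num)
  have hA' : Nat.card (A.map C.subtype) = 5 ^ 1 := by rw [card_map_of_injective (subtype_injective _), hA5]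
  have hS := sylow_of_card (K := M) Nat.prime_five hk ((map_subtype_le A).trans inf_le_left) hA'
  refine ⟨A.map C.subtype, normal_of_sylow Nat.prime_five hS ?_, inferInstance, hA'⟩
  have c1 := card_sylow_modEq_one 5 M
  rw [hS.toSylow.card_eq_index_normalizer] at c1
  have c2 : C.subgroupOf M ≤ normalizer (hS.toSylow : Set M) := by
    rw [← Sylow.coe_coe, hS.coe_toSylow, ← subgroupOf_normalizer_eq hS.le]
    exact comap_mono (le_normalizer_map_subtype_of_normal C A)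
  have c3 : (normalizer (hS.toSylow : Set M)).index ∣ C.relIndex M := index_dvd_of_le c2
  have c4 : C.relIndex M ∣ 2520 := (relIndex_dvd_card _ _).trans hMn
  have c5 : (normalizer (hS.toSylow : Set M)).index = 1 := by
    have d3 := fun h => hi 3 Nat.prime_three (by norm_num) (Dvd.dvd.trans h c3)
    have d7 := fun h => hi 7 hp (by norm_num) (Dvd.dvd.trans h c3)
    have d1 := c3.trans c4
    exact (by decide +kernel : ∀ n ≤ 2520, n ∣ 2520 → n % 5 = 1 % 5 → ¬ 3 ∣ n → ¬ 7 ∣ n → n = 1) _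
      (Nat.le_of_dvd (by norm_num) d1) d1 c1 d3 d7
  rw [index_eq_one, ← Sylow.coe_coe, hS.coe_toSylow, ← subgroupOf_normalizer_eq hS.le, subgroupOf_eq_top] at c5
  exact c5

theorem main2520 (G : Type u) [Group G] [Finite G] :
    Nat.card G ∣ 2520 → 35 ∣ Nat.card G → ¬ (IsSimpleGroup G ∧ Nat.card G = 2520) →
      NA G (5 ^ 1) ∨ NA G (7 ^ 1) ∨ NA G (2 ^ 3) := by
  refine induction_on_card (P := fun G _ _ => Nat.card G ∣ 2520 → 35 ∣ Nat.card G →
    ¬ (IsSimpleGroup G ∧ Nat.card G = 2520) → NA G (5 ^ 1) ∨ NA G (7 ^ 1) ∨ NA G (2 ^ 3)) ?_ G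
  intro G _ _ ih h1 h2 h3
  have hle := Nat.le_of_dvd (by norm_num) h1
  have p5 := Nat.prime_five
  have p7 : Nat.Prime 7 := by norm_num
  have k5 : ¬ 5 ^ (1 + 1) ∣ Nat.card G := fun h => absurd (h.trans h1) (by norm_num)
  have k7 : ¬ 7 ^ (1 + 1) ∣ Nat.card G := fun h => absurd (h.trans h1) (by norm_num)
  have k2 : ¬ 2 ^ (3 + 1) ∣ Nat.card G := fun h => absurd (h.trans h1) (by norm_num)
  have hsim : ¬ IsSimpleGroup G := fun hsim => by
    have := ho G (Perm.not_comm_of_not_prime fun h => by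
      have := (Nat.prime_dvd_prime_iff_eq p5 h).1 (Dvd.dvd.trans (by norm_num) h2)
      omega) h1
    exact h3 ⟨hsim, by omega⟩
  have : Nontrivial G := Finite.one_lt_card_iff_nontrivial.1 (lt_of_lt_of_le (by norm_num)
    (Nat.le_of_dvd Nat.card_pos h2))
  obtain ⟨N, hN, hN1, hN2⟩ : ∃ N : Subgroup G, N.Normal ∧ N ≠ ⊥ ∧ N ≠ ⊤ := by
    by_contra! h
    exact hsim ⟨fun N hN => or_iff_not_imp_left.2 (h N hN)⟩
  obtain ⟨M, hM, hM0, hMN, hmin⟩ := exists_minimal_normal_le N hN1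
  have up : ∀ K : Subgroup G, K.Normal → K ≠ ⊤ → 35 ∣ Nat.card K →
      NA G (5 ^ 1) ∨ NA G (7 ^ 1) ∨ NA G (2 ^ 3) := fun K hK hK1 hK2 => by
    have h4 := card_lt_of_ne_top K hK1
    rcases ih K h4 ((card_subgroup_dvd_card K).trans h1) hK2 (fun h => by omega) with h | h | h
    exacts [Or.inl (h.up p5 k5), Or.inr (Or.inl (h.up p7 k7)), Or.inr (Or.inr (h.up Nat.prime_two k2))]
  have hMn := (card_subgroup_dvd_card M).trans h1
  have h4 := card_quotient_lt M hM0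
  have h5 := M.card_mul_index
  rw [index_eq_card] at h5
  have hQn := (Dvd.intro_left _ h5).trans h1
  have hNM : ∀ R : Subgroup G, R ≤ normalizer (M : Set G) := fun R => by rw [normalizer_eq_top]; exact le_top
  have c5 : ¬ 5 ∣ Nat.card M → ∀ Q : Subgroup G, Nat.card Q = 5 ^ 1 → M ≤ centralizer (Q : Set G) :=
    fun h Q hQ => cent_all p5 hQ (hNM Q) h fun s j a b c d e => ar5 s j a b c (d.trans hMn) e
  have q5 : ¬ 5 ∣ Nat.card M → 5 ∣ Nat.card (G ⧸ M) := fun h =>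
    (p5.dvd_mul.1 (h5 ▸ Dvd.dvd.trans (by norm_num) h2)).resolve_left h
  have q7 : ¬ 7 ∣ Nat.card M → 7 ∣ Nat.card (G ⧸ M) := fun h =>
    (p7.dvd_mul.1 (h5 ▸ Dvd.dvd.trans (by norm_num) h2)).resolve_left h
  have hmul : ∀ a b : ℕ, a ∣ Nat.card M → b ∣ Nat.card (G ⧸ M) → a * b ∣ 2520 := fun a b ha hb =>
    (mul_dvd_mul ha hb).trans (h5 ▸ h1)
  by_cases a5 : 5 ∣ Nat.card M <;> by_cases a7 : 7 ∣ Nat.card M
  · exact up M hM (fun h => hN2 (top_le_iff.1 (h ▸ hMN))) (by omega)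
  · by_cases a4 : 4 ∣ Nat.card M
    swap
    · exact Or.inl ((na5 ho M hMn a5 a4).up p5 k5)
    by_cases hc : NA G (5 ^ 1)
    · exact Or.inl hc
    exact Or.inr (Or.inl ((na7 ho _ hQn (q7 a7) fun h => absurd (hmul _ _ a4 h) (by norm_num)).lift p7 k7
      fun Q hQ => (cent7 ho h1 a5 a7 hQ).resolve_right hc))
  · by_cases a8 : 8 ∣ Nat.card M
    swap
    · exact Or.inr (Or.inl ((na7 ho M hMn a7 a8).up p7 k7))
    exact Or.inl ((na5 ho _ hQn (q5 a5) fun h => absurd (hmul _ _ a8 h) (by norm_num)).lift p5 k5 (c5 a5))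
  obtain ⟨R, hR⟩ := exists_card_prime p7 (Dvd.dvd.trans (by norm_num) h2)
  obtain ⟨R', hR'⟩ := exists_card_prime p5 (Dvd.dvd.trans (by norm_num) h2)
  have hsol : Group.IsSolvable M := burnside_of_dvd (a := 3) (b := 2) Nat.prime_two Nat.prime_three
    ((p5.coprime_iff_not_dvd.2 a5).symm.dvd_of_dvd_mul_left
      ((p7.coprime_iff_not_dvd.2 a7).symm.dvd_of_dvd_mul_left (hMn.trans (by norm_num))))
  rcases cent_or (E := True) (q := 2) (k := 3) p7 hM0 hmin a7 (fun s j a b c d e => by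
    obtain ⟨f1, f2⟩ := ar7 s j a b c (d.trans hMn) e
    exact ⟨trivial, f1, f2, hsol⟩) k2 hR with h | h
  swap
  · exact Or.inr (Or.inr h.2)
  by_cases hC : centralizer (M : Set G) = ⊤
  swap
  · have d7 := hR ▸ card_dvd_of_le (le_centralizer_iff.1 h)
    have d5 := hR' ▸ card_dvd_of_le (le_centralizer_iff.1 (c5 a5 R' hR'))
    exact up _ inferInstance hC (by omega)
  have hZ : ∀ Q : Subgroup G, M ≤ centralizer (Q : Set G) := fun Q => le_centralizer_iff.1 (hC ▸ le_top)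
  have := q5 a5
  have := q7 a7
  rcases ih (G ⧸ M) h4 hQn (by omega) (fun h => by omega) with h | h | h
  exacts [Or.inl (h.lift p5 k5 fun Q _ => hZ Q), Or.inr (Or.inl (h.lift p7 k7 fun Q _ => hZ Q)),
    Or.inr (Or.inr (h.lift Nat.prime_two k2 fun Q _ => hZ Q))]

end Cfsg.Agent.Mix26.DG
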