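import Mathlib
import Cfsg.Agent.Mix26.DG2
import Cfsg.Agent.GL2.PDeg
import Cfsg.Agent.Classical.SLBasic
import Cfsg.Agent.S0495

/-! Simplicity from the degree graph. -/

set_option autoImplicit false

namespace Cfsg.Agent.Mix26.DG

open Cfsg.Agent.Core Cfsg.Agent.Char Cfsg.Agent.Block Subgroup

universe u

abbrev L2 (F : Type) [Field F] : Type := Matrix.ProjectiveSpecialLinearGroup (Fin 2) F

theorem card_GF (p n : ℕ) [Fact p.Prime] (hn : n ≠ 0) [Fintype (GaloisField p n)] :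
    Fintype.card (GaloisField p n) = p ^ n := by
  rw [← Nat.card_eq_fintype_card, GaloisField.card p n hn]

def OL : List ℕ := [60, 168, 360, 504, 660, 1092, 2448, 2520, 3420, 4080, 5616]

def Ord.{v} : Prop := ∀ (T : Type v) [Group T] [Finite T] [IsSimpleGroup T], ¬ IsMulCommutative T →
  Nat.card T < 6000 → Nat.card T ∈ OL

variable (ho : Ord.{u}) {G : Type u} [Group G] [Finite G]
include ho

theorem simple_of {n r q k : ℕ} (hr : r.Prime) (hq : q.Prime) (hn : n < 6000) (hG : Nat.card G = n)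
    (h1 : r ∣ n ∧ ¬ r ^ (1 + 1) ∣ n ∧ ¬ q ^ (k + 1) ∣ n ∧ ¬ r ∣ n / r ^ 1 ∧ ¬ q ∣ n / q ^ k)
    (har : ∀ s ∈ n.primeFactorsList, ∀ j ∈ List.range 13, s ≠ r → 1 ≤ j → s ^ j ∣ n → s ^ j % r = 1 →
      s = q ∧ j = k ∧ n ∣ r * (2 ^ 4 * 3 ^ 3))
    (hs : ∀ d ∈ OL, d ∣ n → r ∣ d → d ≠ n → d = 168 ∧ n = 504)
    (wr : W G r) (wq : W G q) (w6 : n = 504 → ¬ W G 6) : IsSimpleGroup G := by
  by_contra hc
  have hn0 : n ≠ 0 := hG ▸ Nat.card_pos.ne'
  have := Fact.mk (show Nat.Prime 7 by norm_num)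
  rcases main (n := n) (r := r) (q := q) (k := k) (m := if n = 504 then 6 else 0) (E := True) hn0 hr hq h1.2.1
    h1.2.2.1 (fun s j a b c d e => by
      obtain ⟨f1, f2, f3⟩ := ar_gen (C := fun s j => s = q ∧ j = k ∧ n ∣ r * (2 ^ 4 * 3 ^ 3)) hn0 har (by omega)
        s j a b c d e
      exact ⟨trivial, f1, f2, 4, 3, f3⟩)
    (fun T _ _ _ a b c d => by
      obtain ⟨e1, e2⟩ := hs _ (ho T a ((Nat.le_of_dvd (Nat.pos_of_ne_zero hn0) b).trans_lt hn)) b c d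
      rw [if_pos e2]
      exact ⟨_, GL2.pred_mem_degs (F := ZMod 7) (Or.inl (S0495.result e1 (ZMod.card 7))) (by simp),
        by simp⟩) G (hG ▸ dvd_rfl) (hG ▸ h1.1) (fun h => hc h.1) with h | ⟨-, h⟩ | h
  · exact h.not_W (hG ▸ h1.2.2.2.1) wr
  · exact h.not_W (hG ▸ h1.2.2.2.2) wq
  · split_ifs at h with e
    exacts [w6 e h, not_W_zero h]

theorem simple2520 (hG : Nat.card G = 2520) (w2 : W G 2) (w5 : W G 5) (w7 : W G 7) : IsSimpleGroup G := by
  by_contra hc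
  rcases main2520 (fun T _ _ _ a b => by
      have := ho T a ((Nat.le_of_dvd (by norm_num) b).trans_lt (by norm_num))
      revert b
      simp only [OL, List.mem_cons, List.not_mem_nil, or_false] at this
      rcases this with h | h | h | h | h | h | h | h | h | h | h <;> rw [h] <;> norm_num)
    G (hG ▸ dvd_rfl) (by rw [hG]; norm_num) (fun h => hc h.1) with h | h | h
  · exact h.not_W (by rw [hG]; norm_num) w5
  · exact h.not_W (by rw [hG]; norm_num) w7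
  · exact h.not_W (by rw [hG]; norm_num) w2

omit ho in
theorem psl_W {S : Type*} [Group S] {F : Type} [Field F] [Fintype F] {q : ℕ} (hF : Fintype.card F = q)
    (h4 : 4 ≤ q) (h5 : q ≠ 5) (e : Nonempty (S ≃* L2 F)) (hΓ : degreePrimes G = degreePrimes S) {r : ℕ}
    (hr : r.Prime) (h : r ∣ q * (q ^ 2 - 1)) : W G r := by
  subst hF
  have : r ∈ degreePrimes G := by rw [hΓ, GL2.primes_eq (Or.inl e) h4 h5]; exact ⟨hr, h⟩
  exact this.2

omit ho in
theorem psl_adj {S : Type*} [Group S] {F : Type} [Field F] [Fintype F] {q : ℕ} (hF : Fintype.card F = q)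
    (h4 : 4 ≤ q) (h5 : q ≠ 5) (e : Nonempty (S ≃* L2 F)) (hΓ : degreeGraph G = degreeGraph S) {r s : ℕ}
    (hr : r.Prime) (hs : s.Prime) (hrs : r ≠ s) :
    W G (r * s) ↔ (r ∣ q + 1 ∧ s ∣ q + 1) ∨ (r ∣ q - 1 ∧ s ∣ q - 1) := by
  subst hF
  have := GL2.adj_iff (Or.inl e) h4 h5 r s
  rw [← hΓ] at this
  exact ⟨fun h => (this.1 ⟨hrs, hr, hs, h⟩).2.2.2, fun h => (this.2 ⟨hrs, hr, hs, h⟩).2.2.2⟩

end Cfsg.Agent.Mix26.DG
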