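import Mathlib
import Cfsg.Agent.PLocal.PStable
import Cfsg.Agent.PGrp.Aut
import Cfsg.Agent.Push.PSL
import Cfsg.Agent.Inv.PSL2Syl
import Cfsg.Agent.Classical.SL2Basic
import Cfsg.Agent.Ree.Lie3
import Cfsg.Agent.Ree.Easy
import Cfsg.Agent.S1073

/-! No quadratic action of `PSL₂(q)`, `q` odd, or of the small Ree groups. -/

set_option autoImplicit false
open Cfsg Subgroup
open scoped commutatorElement Pointwise MatrixGroups

namespace Cfsg.Agent.Mix26
open Cfsg.Agent.PLocal

/-- Non-involutions inside a `2`-subgroup commute. -/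
def DihTwo (G : Type*) [Group G] : Prop :=
  ∀ T : Subgroup G, IsPGroup 2 T → ∀ x ∈ T, ∀ y ∈ T, x * x ≠ 1 → y * y ≠ 1 → x * y = y * x

section
variable {G G' : Type*} [Group G] [Group G']

theorem DihTwo.of_injective (h : DihTwo G') (f : G →* G') (hf : Function.Injective f) :
    DihTwo G := by
  intro T hT x hx y hy h1 h2
  apply hf
  rw [map_mul, map_mul]
  refine h (T.map f) (hT.map f) _ (mem_map_of_mem f hx) _ (mem_map_of_mem f hy) ?_ ?_
  · intro e; apply h1; apply hf; rw [map_mul, e, map_one]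
  · intro e; apply h2; apply hf; rw [map_mul, e, map_one]

theorem DihTwo.of_surjective [Finite G] (h : DihTwo G) (f : G →* G') (hf : Function.Surjective f) :
    DihTwo G' := by
  haveI : Finite G' := Finite.of_surjective f hf
  haveI : Fact (Nat.Prime 2) := ⟨Nat.prime_two⟩
  intro T hT x hx y hy h1 h2
  obtain ⟨Q, hQ⟩ := hT.exists_le_sylow
  obtain ⟨P, rfl⟩ := Sylow.mapSurjective_surjective hf 2 Q
  obtain ⟨a, ha, rfl⟩ : x ∈ (P : Subgroup G).map f := hQ hx
  obtain ⟨b, hb, rfl⟩ : y ∈ (P : Subgroup G).map f := hQ hy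
  rw [← map_mul, ← map_mul, h P P.isPGroup' a ha b hb
    (fun e => h1 (by rw [← map_mul, e, map_one])) (fun e => h2 (by rw [← map_mul, e, map_one]))]

theorem dihedral_comm {m : ℕ} (x y : DihedralGroup m) (h1 : x * x ≠ 1) (h2 : y * y ≠ 1) :
    x * y = y * x := by
  rcases x with i | i
  · rcases y with j | j
    · simp [add_comm]
    · exact absurd (DihedralGroup.sr_mul_self j) h2
  · exact absurd (DihedralGroup.sr_mul_self i) h1

theorem DihTwo.abelianTwo {K : Type*} [Field K] (h2 : (2 : K) ≠ 0) {E : Subgroup SL(2, K)}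
    (h : DihTwo E) : AbelianTwo E := by
  intro T hT
  have key : ∀ x y : E, x * x = 1 → x * y = y * x := by
    intro x y hx
    apply Subtype.ext
    rcases Classical.SL2Basic.eq_of_mul_self_eq_one h2 (g := (x : SL(2, K)))
      (congrArg Subtype.val hx) with e | e
    · simp [e]
    · simp [e]
  refine ⟨⟨fun a b => Subtype.ext ?_⟩⟩
  by_cases ha : (a : E) * a = 1
  · exact key _ _ ha
  by_cases hb : (b : E) * b = 1
  · exact (key _ _ hb).symm
  exact h T hT _ a.2 _ b.2 ha hb

theorem DihTwo.noQuadPair [Finite G] {p : ℕ} [Fact p.Prime] (hp : p ≠ 2) (h : DihTwo G) :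
    NoQuadPair p G := by
  rintro a b ⟨K, _, _, _, l, φ, hl, ha, hb⟩
  refine not_abelianTwo_of_upT_loT p hp hl φ.range ⟨_, ha⟩ ⟨_, hb⟩
    (DihTwo.abelianTwo (two_ne_zero_of_charP K p hp) ?_)
  exact (h.of_injective (closure ({a, b} : Set G)).subtype (subtype_injective _)).of_surjective
    φ.rangeRestrict φ.rangeRestrict_surjective

theorem dihTwo_psl {F : Type*} [Field F] [Fintype F] (hodd : Odd (Fintype.card F)) :
    DihTwo PSL(2, F) := by
  haveI : Fact (Nat.Prime 2) := ⟨Nat.prime_two⟩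
  have hodd' : Fintype.card F % 2 = 1 := Nat.odd_iff.1 hodd
  intro T hT x hx y hy h1 h2
  obtain ⟨Q, hQ⟩ := hT.exists_le_sylow
  by_cases h4 : 4 ≤ Fintype.card F
  · obtain ⟨m, -, ⟨e⟩⟩ := Inv.sylow_two_psl2_dihedral hodd' h4 Q
    have := dihedral_comm (e ⟨x, hQ hx⟩) (e ⟨y, hQ hy⟩)
      (fun h => h1 (by
        rw [← map_mul, EmbeddingLike.map_eq_one_iff] at h; exact congrArg Subtype.val h))
      (fun h => h2 (by
        rw [← map_mul, EmbeddingLike.map_eq_one_iff] at h; exact congrArg Subtype.val h))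
    rw [← map_mul, ← map_mul] at this
    exact congrArg Subtype.val (e.injective this)
  · have h1' : 1 < Fintype.card F := Fintype.one_lt_card
    have h3 : Fintype.card F = 3 := by omega
    have hc := Inv.card_psl2_odd hodd'
    rw [h3] at hc
    have hc' : Nat.card PSL(2, F) = 12 := by omega
    have hQc : Nat.card Q = 2 ^ 2 := by
      rw [Sylow.card_eq_multiplicity, hc']
      have : (12 : ℕ).factorization 2 = 2 := by
        rw [show (12 : ℕ) = 2 ^ 2 * 3 by norm_num, Nat.factorization_mul (by norm_num) (by norm_num),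
          Nat.factorization_pow]
        simp [Nat.prime_two.factorization, Nat.prime_three.factorization]
      rw [this]
    exact congrArg Subtype.val
      (IsPGroup.commutative_of_card_eq_prime_sq hQc ⟨x, hQ hx⟩ ⟨y, hQ hy⟩)

theorem pCore_psl {p : ℕ} [Fact p.Prime] (F : Type*) [Field F] [Finite F] [CharP F p] :
    pCore p PSL(2, F) = ⊥ := by
  obtain ⟨S⟩ : Nonempty (Sylow p PSL(2, F)) := inferInstance
  exact (Push.psl_facts F (LocalEven.isSylowIn_top S)).2.2.1 _ (Core.pCore_le_sylow S) inferInstance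

theorem pCore_eq_bot_of_simple [Finite G] {p : ℕ} [Fact p.Prime] [IsSimpleGroup G]
    (h : ¬ IsMulCommutative G) : pCore p G = ⊥ := by
  rcases (inferInstance : (pCore p G).Normal).eq_bot_or_eq_top with e | e
  · exact e
  · exfalso
    have hp : IsPGroup p G := by
      have := Core.pCore_isPGroup (G := G) p
      rw [e] at this
      exact this.of_surjective (⊤ : Subgroup G).subtype (fun x => ⟨⟨x, trivial⟩, rfl⟩)
    haveI := hp.isNilpotent
    exact h ⟨⟨IsSimpleGroup.comm_iff_isSolvable.2 inferInstance⟩⟩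

theorem abelianTwo_ree {K : Type*} [Field K] [Fintype K] {m : ℕ}
    (hK : Fintype.card K = 3 ^ (2 * m + 1)) : AbelianTwo (Cfsg.Lie.twistedG2 K (3 ^ m)) := by
  obtain ⟨Z, -, -⟩ := Ree.exists_model hK
  haveI := Z.finite
  haveI : Fact (Nat.Prime 2) := ⟨Nat.prime_two⟩
  obtain ⟨S⟩ : Nonempty (Sylow 2 (Cfsg.Lie.twistedG2 K (3 ^ m))) := inferInstance
  obtain ⟨X, hX⟩ := Z.exists_sylow_two S
  refine AbelianTwo.of_sylow S ⟨⟨fun a b => ?_⟩⟩
  have h : ∀ x : (S : Subgroup (Cfsg.Lie.twistedG2 K (3 ^ m))), x * x = 1 := fun x =>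
    Subtype.ext (X.sq_of_mem_P (hX.le x.2))
  have h1 : ∀ x : (S : Subgroup (Cfsg.Lie.twistedG2 K (3 ^ m))), x⁻¹ = x := fun x =>
    inv_eq_of_mul_eq_one_right (h x)
  calc a * b = (a * b)⁻¹ := (h1 _).symm
    _ = b * a := by rw [mul_inv_rev, h1, h1]

end

set_option maxHeartbeats 400000 in
open scoped IsMulCommutative in
theorem central_of_noQuadPair {G : Type*} [Group G] [Finite G] {p : ℕ} [Fact p.Prime]
    {V H : Subgroup G} (hV : Cfsg.IsElementaryAbelian p V)
    (hHV : H ≤ Subgroup.normalizer (V : Set G)) {Q : Type*} [Group Q] (π : H →* Q)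
    (hπ : Function.Surjective π)
    (hk : π.ker = (Subgroup.centralizer (V : Set G)).subgroupOf H)
    (hq : NoQuadPair p Q) (hc : pCore p Q = ⊥) {a : G} (ha : a ∈ H) (hqa : Quad V a) :
    a ∈ Subgroup.centralizer (V : Set G) := by
  haveI := hV.1
  haveI : Finite Q := Finite.of_surjective π hπ
  haveI : Finite (AddMonoid.End (Additive V)) :=
    Finite.of_injective (fun f : AddMonoid.End (Additive V) => (f : Additive V → Additive V))
      DFunLike.coe_injective
  have hp : (p : AddMonoid.End (Additive V)) = 0 := by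
    ext v
    rw [AddMonoid.End.natCast_apply]
    simpa using hV.2 _ (Additive.toMul v).2
  let ρ0 : H →* AddMonoid.End (Additive V) := (conjEnd V).comp (inclusion hHV)
  have hρ0 : ∀ x : H, ρ0 x = 1 ↔ (x : G) ∈ Subgroup.centralizer (V : Set G) := by
    intro x
    constructor
    · intro h v hv
      have := conjEnd_apply V (inclusion hHV x) (Additive.ofMul ⟨v, hv⟩)
      change ((Additive.toMul (ρ0 x (Additive.ofMul ⟨v, hv⟩)) : V) : G) = x * v * (x : G)⁻¹ at this
      rw [h] at this
      change v = _ at this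
      conv_lhs => rw [this]
      simp
    · intro h
      ext v
      have := conjEnd_apply V (inclusion hHV x) v
      change ((Additive.toMul (ρ0 x v) : V) : G) = x * (Additive.toMul v : V) * (x : G)⁻¹ at this
      change ((Additive.toMul (ρ0 x v) : V) : G) = (Additive.toMul v : V)
      rw [this, ← h _ (Additive.toMul v).2]
      simp
  let ρ : Q →* AddMonoid.End (Additive V) :=
    (π.liftOfSurjective hπ ⟨ρ0.toHomUnits, fun x hx => by
      rw [MonoidHom.mem_ker, ← Units.val_eq_one]
      exact (hρ0 x).2 (by rw [hk] at hx; exact hx)⟩ |> (Units.coeHom _).comp)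
  have hρ : ∀ x : H, ρ (π x) = ρ0 x := by
    intro x
    simp [ρ]
  have hquad : ∀ x : H, Quad V x → (ρ (π x) - 1) * (ρ (π x) - 1) = 0 := by
    intro x hx
    rw [hρ]
    have h1 : ∀ v : Additive V, ((Additive.toMul ((ρ0 x - 1) v) : V) : G) =
        ⁅(x : G), ((Additive.toMul v : V) : G)⁆ := by
      intro v
      change ((Additive.toMul (conjEnd V (inclusion hHV x) v - v) : V) : G) = _
      rw [toMul_sub, div_eq_mul_inv, coe_mul, conjEnd_apply, commutatorElement_def]
      rfl
    ext v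
    change ((Additive.toMul ((ρ0 x - 1) ((ρ0 x - 1) v)) : V) : G) = 1
    rw [h1, h1]
    exact hx _ (Additive.toMul v).2
  have hmem : π ⟨a, ha⟩ ∈ pCore p Q := by
    refine H2.baer_suzuki_elem fun g => ?_
    obtain ⟨g, rfl⟩ := hπ g
    have h3 : Quad V ((g * ⟨a, ha⟩ * g⁻¹ : H) : G) := by
      rw [coe_mul, coe_mul, coe_inv]
      exact Quad.conj (g := (g : G)) hqa (hHV g.2)
    have h2 := hquad _ h3
    rw [map_mul π, map_mul π, map_inv π] at h2
    rcases quadPair_or_pow p hp ρ (hquad ⟨a, ha⟩ hqa) h2 with h | h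
    · exact absurd h (hq _ _)
    · rintro ⟨x, hx⟩
      obtain ⟨k, hk'⟩ := h x hx
      refine ⟨k, Subtype.ext ?_⟩
      obtain ⟨y, rfl⟩ := hπ x
      rw [← map_pow, hρ, hρ0] at hk'
      change (π y) ^ p ^ k = 1
      rw [← map_pow, ← MonoidHom.mem_ker, hk]
      exact hk'
  rw [hc, mem_bot, ← MonoidHom.mem_ker, hk] at hmem
  exact hmem

end Cfsg.Agent.Mix26
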