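import Mathlib
import Cfsg.Agent.PGrp.Frattini
import Cfsg.Agent.PGrp.Comm

set_option autoImplicit false
set_option linter.unusedSectionVars false
open Subgroup
open scoped commutatorElement

namespace Cfsg.Agent.Mix26

variable {T : Type*} [Group T] [Finite T]

theorem ru_comm_of_sq {N X : Subgroup T} [hN : N.Normal] (hsq : ∀ x ∈ X, x ^ 2 ∈ N) {x y : T}
    (hx : x ∈ X) (hy : y ∈ X) : ⁅x, y⁆ ∈ N := by
  have h1 := hsq _ (mul_mem hx hy)
  have h2 := hsq _ (inv_mem hx)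
  have h3 := hsq _ (inv_mem hy)
  have : ⁅x, y⁆ = (x * y) ^ 2 * (y⁻¹ * (x⁻¹ ^ 2) * y⁻¹⁻¹) * (y⁻¹ ^ 2) * (y * (x ^ 2) * y⁻¹) *
      (y * (x⁻¹ ^ 2) * y⁻¹) := by
    simp only [commutatorElement_def, pow_two]; group
  rw [this]
  exact mul_mem (mul_mem (mul_mem (mul_mem h1 (hN.conj_mem _ h2 _)) h3) (hN.conj_mem _ (hsq _ hx) _))
    (hN.conj_mem _ h2 _)

theorem ru_z2 : ∀ a : ZMod 2, a = 0 ∨ a = 1 := by decide

theorem ru_two {A B : Subgroup T} (h : A.relIndex B = 2) {x y : T} (hx : x ∈ B) (hy : y ∈ B) :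
    x * y ∈ A ↔ (x ∈ A ↔ y ∈ A) :=
  Subgroup.mul_mem_iff_of_index_two (H := A.subgroupOf B) h (a := ⟨x, hx⟩) (b := ⟨y, hy⟩)

theorem ru_norm {N U X : Subgroup T} [N.Normal] (hsq : ∀ x ∈ X, x ^ 2 ∈ N) (h1 : N ≤ U) (h2 : U ≤ X)
    {x : T} (hx : x ∈ X) : x ∈ normalizer (U : Set T) :=
  PGrp.mem_normalizer_of_conj_mem fun u hu => by
    rw [PGrp.conj_eq_commutator_mul]
    exact mul_mem (h1 (ru_comm_of_sq hsq hx (h2 hu))) hu

theorem ru_avoid {N X : Subgroup T} [N.Normal] (hNX : N ≤ X) (hsq : ∀ x ∈ X, x ^ 2 ∈ N) {n : T}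
    (hn : n ∈ X) (hnN : n ∉ N) : ∃ U : Subgroup T, N ≤ U ∧ U ≤ X ∧ n ∉ U ∧ U.relIndex X = 2 := by
  obtain ⟨U, ⟨h1, h2, h3⟩, hmax⟩ := (wellFounded_gt (α := Subgroup T)).has_min
    {U | N ≤ U ∧ U ≤ X ∧ n ∉ U} ⟨N, le_rfl, hNX, hnN⟩
  refine ⟨U, h1, h2, h3, ?_⟩
  have : U ⊔ zpowers n = X := by
    refine le_antisymm (sup_le h2 (zpowers_le.2 hn)) fun x hx => ?_
    by_cases hxU : x ∈ U
    · exact mem_sup_left hxU
    have hn' : n ∈ U ⊔ zpowers x := by
      by_contra hc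
      refine hmax (U ⊔ zpowers x) ⟨h1.trans le_sup_left, sup_le h2 (zpowers_le.2 hx), hc⟩ ?_
      exact lt_of_le_of_ne le_sup_left fun h => hxU (h ▸ mem_sup_right (mem_zpowers x))
    have hr := PGrp.relIndex_sup_zpowers Nat.prime_two (ru_norm hsq h1 h2 hx) (h1 (hsq x hx)) hxU
    have := PGrp.sup_zpowers_eq_of_relIndex_prime Nat.prime_two hr le_sup_left hn' h3
    rw [this]; exact mem_sup_right (mem_zpowers x)
  rw [← this]
  exact PGrp.relIndex_sup_zpowers Nat.prime_two (ru_norm hsq h1 h2 hn) (h1 (hsq n hn)) h3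

/-- A module with one-dimensional fixed points embeds in the coinduced module. -/
theorem ru_free (hT : IsPGroup 2 T) {N V C Z : Subgroup T} [hN : N.Normal] [hV : V.Normal] (hNV : N ≤ V)
    (hsq : ∀ x ∈ V, x ^ 2 ∈ N) (hC : ∀ c ∈ C, ∀ v ∈ V, ⁅c, v⁆ ∈ N) (hZ : N.relIndex Z = 2)
    (hfix : ∀ v, (∀ t, ⁅v, t⁆ ∈ N) → v ∈ Z) :
    Nat.card V ≤ Nat.card N * 2 ^ C.index ∧ (Nat.card V = Nat.card N * 2 ^ C.index →
      ∃ w ∈ V, ∀ K : Subgroup T, K.Normal → N ≤ K → w ∈ K → V ≤ K) := by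
  classical
  haveI : Fact (Nat.Prime 2) := ⟨Nat.prime_two⟩
  by_cases hVN : V ≤ N
  · refine ⟨(card_le_of_le hVN).trans (Nat.le_mul_of_pos_right _ (by positivity)), fun _ =>
      ⟨1, one_mem _, fun K _ h _ => hVN.trans h⟩⟩
  obtain ⟨n, hn, hnN, -, hnc⟩ := PGrp.exists_central_mod_normal hT V N hVN
  obtain ⟨U, h1, h2, h3, h4⟩ := ru_avoid hNV hsq hn hnN
  let χ : T → ZMod 2 := fun x => if x ∈ U then 0 else 1
  have χm : ∀ x ∈ V, ∀ y ∈ V, χ (x * y) = χ x + χ y := fun x hx y hy => by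
    have := ru_two h4 hx hy
    by_cases a : x ∈ U <;> by_cases b : y ∈ U <;> simp_all [χ]
    rfl
  have χC : ∀ c ∈ C, ∀ v ∈ V, χ (c * v * c⁻¹) = χ v := fun c hc v hv => by
    rw [PGrp.conj_eq_commutator_mul, χm _ (hNV (hC c hc v hv)) _ hv]
    simp [χ, h1 (hC c hc v hv)]
  let Φ : V →* Multiplicative (T ⧸ C → ZMod 2) := MonoidHom.mk'
    (fun v => Multiplicative.ofAdd fun q => χ (q.out⁻¹ * v * q.out)) fun v w => by
      rw [← ofAdd_add]
      congr 1
      funext q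
      rw [Pi.add_apply, ← χm _ (hV.conj_mem' _ v.2 _) _ (hV.conj_mem' _ w.2 _)]
      congr 1
      simp only [coe_mul]; group
  have hΦ : ∀ (v : V) (t : T), (Φ v).toAdd (t : T ⧸ C) = χ (t⁻¹ * v * t) := fun v t => by
    obtain ⟨c, hc⟩ := QuotientGroup.mk_out_eq_mul C t
    show χ ((t : T ⧸ C).out⁻¹ * v * (t : T ⧸ C).out) = _
    rw [hc, ← χC _ (inv_mem c.2) _ (hV.conj_mem' _ v.2 t)]
    congr 1; group
  have hker : Φ.ker = N.subgroupOf V := by
    let K : Subgroup T := U.normalCore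
    have hK : K ≤ N := by
      by_contra hc
      obtain ⟨m, hm, hmN, -, hmc⟩ := PGrp.exists_central_mod_normal hT K N hc
      have := (ru_two hZ (hfix m hmc) (hfix n hnc)).2 (by simp [hmN, hnN])
      exact h3 ((U.mul_mem_cancel_left (U.normalCore_le hm)).1 (h1 this))
    ext v
    rw [MonoidHom.mem_ker, mem_subgroupOf]
    constructor
    · intro h
      refine hK fun t => ?_
      have := hΦ v t⁻¹
      rw [h] at this
      by_contra hc
      simp [χ, hc] at this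
    · intro h
      apply Multiplicative.toAdd.injective
      funext q
      obtain ⟨t, rfl⟩ := QuotientGroup.mk_surjective q
      rw [hΦ]
      simp [χ, h1 (hN.conj_mem' _ h t)]
  have hc1 : Nat.card V = Nat.card N * Nat.card Φ.range := by
    rw [← index_ker, hker, PGrp.card_eq_card_mul_relIndex hNV]; rfl
  have hc2 : Nat.card (Multiplicative (T ⧸ C → ZMod 2)) = 2 ^ C.index := by
    rw [Nat.card_congr Multiplicative.toAdd, Nat.card_fun, Nat.card_zmod]; rfl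
  refine ⟨by rw [hc1, ← hc2]; exact Nat.mul_le_mul_left _ (card_le_card_group _), fun he => ?_⟩
  have hr : Φ.range = ⊤ := by
    rw [← card_eq_iff_eq_top, hc2]
    rw [hc1] at he
    exact Nat.eq_of_mul_eq_mul_left Nat.card_pos he
  obtain ⟨w, hw⟩ := MonoidHom.range_eq_top.1 hr
    (Multiplicative.ofAdd (Pi.single ((1 : T) : T ⧸ C) 1))
  refine ⟨w, w.2, fun K hKn hNK hwK v hv => ?_⟩
  have hs : ∀ q : T ⧸ C, Multiplicative.ofAdd (Pi.single q (1 : ZMod 2)) ∈ (K.subgroupOf V).map Φ := by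
    intro q
    obtain ⟨t, rfl⟩ := QuotientGroup.mk_surjective q
    refine ⟨⟨t * w * t⁻¹, hV.conj_mem _ w.2 _⟩, hKn.conj_mem _ hwK t, ?_⟩
    apply Multiplicative.toAdd.injective
    funext q
    obtain ⟨u, rfl⟩ := QuotientGroup.mk_surjective q
    have := hΦ w (t⁻¹ * u)
    rw [hw] at this
    rw [hΦ, show u⁻¹ * ((⟨t * w * t⁻¹, hV.conj_mem _ w.2 _⟩ : V) : T) * u =
      (t⁻¹ * u)⁻¹ * w * (t⁻¹ * u) by simp only; group, ← this]
    simp only [toAdd_ofAdd, Pi.single_apply, QuotientGroup.eq]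
    congr 2
    group
  have hall : ∀ g : T ⧸ C → ZMod 2, Multiplicative.ofAdd g ∈ (K.subgroupOf V).map Φ := by
    intro g
    haveI := Fintype.ofFinite (T ⧸ C)
    rw [← Finset.univ_sum_single g, ofAdd_sum]
    refine prod_mem fun q _ => ?_
    rcases ru_z2 (g q) with h | h
    · rw [h, Pi.single_zero]; exact one_mem _
    · rw [h]; exact hs q
  obtain ⟨k, hk, hkv⟩ := hall (Φ ⟨v, hv⟩).toAdd
  have : k⁻¹ * ⟨v, hv⟩ ∈ Φ.ker := by
    rw [MonoidHom.mem_ker, map_mul, map_inv, hkv]; simp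
  rw [hker] at this
  exact (K.mul_mem_cancel_left (K.inv_mem hk)).1 (hNK this)

theorem ru_three {H : Type*} [Group H] {z a b c : H} (hz : ∀ g, g * z = z * g) (h2 : z * z = 1)
    (ha : a ^ 2 = z) (hb : b ^ 2 = z) (hc : c ^ 2 = z) (hab : (a * b) ^ 2 = z) (hac : (a * c) ^ 2 = z)
    (hbc : (b * c) ^ 2 = z) : (a * b * c) ^ 2 = 1 := by
  have key : ∀ x y : H, x ^ 2 = z → y ^ 2 = z → (x * y) ^ 2 = z → y * x = z * (x * y) := by
    intro x y hx hy hxy
    have e1 : y * x = x⁻¹ * (x * y) ^ 2 * y⁻¹ := by rw [pow_two]; group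
    have e2 : x * y = x⁻¹ * (x ^ 2 * y ^ 2) * y⁻¹ := by rw [pow_two, pow_two]; group
    rw [hxy] at e1; rw [hx, hy, h2] at e2; rw [e1, e2, hz]; group
  have e : (a * b * c) ^ 2 = a * b * (c * a) * b * c := by rw [pow_two]; group
  rw [e, key a c ha hc hac]
  have e : a * b * (z * (a * c)) * b * c = (a * b * z) * a * (c * b) * c := by group
  rw [e, key b c hb hc hbc, hz]
  have e : z * (a * b) * a * (z * (b * c)) * c = z * a * (b * a) * z * b * c ^ 2 := by rw [pow_two]; group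
  rw [e, key a b ha hb hab, hc]
  have e : z * a * (z * (a * b)) * z * b * z = z * (a * z) * a * (b * z) * b * z := by group
  rw [e, hz a, hz b]
  have e : z * (z * a) * a * (z * b) * b * z = (z * z) * a ^ 2 * z * b ^ 2 * z := by
    rw [pow_two, pow_two]; group
  rw [e, ha, hb, h2, one_mul, h2, one_mul, h2]

local notation "Z" => Subgroup.upperCentralSeries T

theorem ru_zle {i j : ℕ} (h : i ≤ j) : Z i ≤ Z j := Subgroup.upperCentralSeries_mono T h

theorem ru_zc (hT : IsPGroup 2 T) (ha : 2 ^ 14 ≤ Nat.card T) (hb : Nat.card (Z 4) = 16) :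
    Nat.card (Z 0) = 1 ∧ Nat.card (Z 1) = 2 ∧ Nat.card (Z 2) = 4 ∧ Nat.card (Z 3) = 8 := by
  haveI : Fact (Nat.Prime 2) := ⟨Nat.prime_two⟩
  have key : ∀ i, i ≤ 3 → 2 * Nat.card (Z i) ≤ Nat.card (Z (i + 1)) := by
    intro i hi
    have h1 : ¬ ⊤ ≤ Z i := fun h => by
      have := card_le_of_le (h.trans (ru_zle (j := 4) (by omega)))
      rw [card_top, hb] at this
      omega
    obtain ⟨x, -, hx, -, hc⟩ := PGrp.exists_central_mod_normal hT ⊤ (Z i) h1
    have h2 : Z i < Z (i + 1) := lt_of_le_of_ne (ru_zle (by omega)) fun h =>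
      hx (h ▸ Subgroup.mem_upperCentralSeries_succ_iff.2 hc)
    have h3 := PGrp.card_lt_of_lt h2
    obtain ⟨k, hk⟩ := card_dvd_of_le h2.le
    rw [hk] at h3 ⊢
    have : 1 < k := by
      by_contra hc
      have : Nat.card (Z i) * k ≤ Nat.card (Z i) * 1 := Nat.mul_le_mul_left _ (by omega)
      omega
    nlinarith
  have h0 : Nat.card (Z 0) = 1 := by simp
  have h1 := key 0 (by omega)
  have h2 := key 1 (by omega)
  have h3 := key 2 (by omega)
  have h4 := key 3 (by omega)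
  norm_num only at h1 h2 h3 h4
  omega

theorem ru_zr (hT : IsPGroup 2 T) (ha : 2 ^ 14 ≤ Nat.card T) (hb : Nat.card (Z 4) = 16) {i : ℕ}
    (hi : i ≤ 3) : (Z i).relIndex (Z (i + 1)) = 2 := by
  obtain ⟨h0, h1, h2, h3⟩ := ru_zc hT ha hb
  have := PGrp.card_eq_card_mul_relIndex (ru_zle (T := T) (i := i) (j := i + 1) (by omega))
  interval_cases i <;> norm_num only at this ⊢ <;> simp only [h0, h1, h2, h3, hb] at this <;> omega

theorem ru_step (hT : IsPGroup 2 T) (ha : 2 ^ 14 ≤ Nat.card T) (hb : Nat.card (Z 4) = 16)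
    (N : Subgroup T) [N.Normal] : ∀ i, i ≤ 3 → ¬ N ≤ Z i → Z (i + 1) ≤ N := by
  haveI : Fact (Nat.Prime 2) := ⟨Nat.prime_two⟩
  have key : ∀ i, i ≤ 3 → ¬ N ≤ Z i → Z i ≤ N → Z (i + 1) ≤ N := by
    intro i hi h1 h2
    obtain ⟨x, hxN, hx, -, hc⟩ := PGrp.exists_central_mod_normal hT N (Z i) h1
    rw [← PGrp.sup_zpowers_eq_of_relIndex_prime Nat.prime_two (ru_zr hT ha hb hi) (ru_zle (by omega))
      (Subgroup.mem_upperCentralSeries_succ_iff.2 hc) hx]
    exact sup_le h2 (zpowers_le.2 hxN)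
  intro i
  induction i with
  | zero => intro hi h; exact key 0 hi h (by simp)
  | succ i ih =>
    intro hi h
    exact key _ hi h (ih (by omega) fun h' => h (h'.trans (ru_zle (by omega))))

end Cfsg.Agent.Mix26
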