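import Mathlib
import Cfsg.Agent.Mix26.ThreeCyc
import Cfsg.Agent.FGS.SymSyl3
import Cfsg.Agent.Perm.Support

set_option autoImplicit false
open Cfsg Equiv Subgroup MulAction
open scoped Pointwise

namespace Cfsg.Agent.Mix26

variable {α : Type*} [DecidableEq α]

/-- the Klein four-group on `B` lies in `H` -/
def KB (H : Subgroup (Perm α)) (B : Finset α) : Prop :=
  B.card = 4 ∧ ∀ p ∈ B, ∀ q ∈ B, ∀ r ∈ B, p ≠ q → p ≠ r → q ≠ r →
    ∃ s ∈ B, s ≠ p ∧ s ≠ q ∧ s ≠ r ∧ swap p q * swap r s ∈ H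

variable {H : Subgroup (Perm α)} {B : Finset α}

theorem swap_swap_comm {p q r s : α} (h1 : p ≠ r) (h2 : p ≠ s) (h3 : q ≠ r) (h4 : q ≠ s) :
    swap p q * swap r s = swap r s * swap p q := by
  ext a; simp only [Perm.mul_apply, swap_apply_def]; grind

theorem KB_of {w x y z : α} (d1 : w ≠ x) (d2 : w ≠ y) (d3 : w ≠ z) (d4 : x ≠ y) (d5 : x ≠ z)
    (d6 : y ≠ z) (e1 : swap w x * swap y z ∈ H) (e2 : swap w y * swap x z ∈ H) :
    KB H {w, x, y, z} := by
  have e3 : swap w z * swap x y ∈ H := by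
    have : swap w z * swap x y = swap w x * swap y z * (swap w y * swap x z) := by
      ext a; simp only [Perm.mul_apply, swap_apply_def]; grind
    exact this ▸ mul_mem e1 e2
  have e1' : swap y z * swap w x ∈ H := swap_swap_comm d2 d3 d4 d5 ▸ e1
  have e2' : swap x z * swap w y ∈ H := swap_swap_comm d1 d3 d4.symm d6 ▸ e2
  have e3' : swap x y * swap w z ∈ H := swap_swap_comm d1 d2 d5.symm d6.symm ▸ e3
  have : swap w x * swap z y ∈ H := by rw [swap_comm z y]; exact e1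
  have : swap w y * swap z x ∈ H := by rw [swap_comm z x]; exact e2
  have : swap w z * swap y x ∈ H := by rw [swap_comm y x]; exact e3
  have : swap x w * swap y z ∈ H := by rw [swap_comm x w]; exact e1
  have : swap x w * swap z y ∈ H := by rw [swap_comm x w, swap_comm z y]; exact e1
  have : swap x y * swap z w ∈ H := by rw [swap_comm z w]; exact e3'
  have : swap x z * swap y w ∈ H := by rw [swap_comm y w]; exact e2'
  have : swap y w * swap x z ∈ H := by rw [swap_comm y w]; exact e2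
  have : swap y w * swap z x ∈ H := by rw [swap_comm y w, swap_comm z x]; exact e2
  have : swap y x * swap w z ∈ H := by rw [swap_comm y x]; exact e3'
  have : swap y x * swap z w ∈ H := by rw [swap_comm y x, swap_comm z w]; exact e3'
  have : swap y z * swap x w ∈ H := by rw [swap_comm x w]; exact e1'
  have : swap z w * swap x y ∈ H := by rw [swap_comm z w]; exact e3
  have : swap z w * swap y x ∈ H := by rw [swap_comm z w, swap_comm y x]; exact e3
  have : swap z x * swap w y ∈ H := by rw [swap_comm z x]; exact e2'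
  have : swap z x * swap y w ∈ H := by rw [swap_comm z x, swap_comm y w]; exact e2'
  have : swap z y * swap w x ∈ H := by rw [swap_comm z y]; exact e1'
  have : swap z y * swap x w ∈ H := by rw [swap_comm z y, swap_comm x w]; exact e1'
  have := d1.symm; have := d2.symm; have := d3.symm; have := d4.symm; have := d5.symm
  have := d6.symm
  refine ⟨by simp [Finset.card_insert_of_notMem, *], fun p hp q hq r hr h1 h2 h3 => ?_⟩
  simp only [Finset.mem_insert, Finset.mem_singleton] at hp hq hr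
  obtain hp | hp | hp | hp := hp <;> obtain hq | hq | hq | hq := hq <;>
    obtain hr | hr | hr | hr := hr <;> subst p q r <;>
    first
    | exact absurd rfl h1
    | exact absurd rfl h2
    | exact absurd rfl h3
    | exact ⟨w, by simp, ‹_›, ‹_›, ‹_›, ‹_›⟩
    | exact ⟨x, by simp, ‹_›, ‹_›, ‹_›, ‹_›⟩
    | exact ⟨y, by simp, ‹_›, ‹_›, ‹_›, ‹_›⟩
    | exact ⟨z, by simp, ‹_›, ‹_›, ‹_›, ‹_›⟩

theorem KB.conj (h : KB H B) {g : Perm α} (hg : g ∈ H) : KB H (B.image g) := by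
  refine ⟨by rw [Finset.card_image_of_injective _ g.injective, h.1], ?_⟩
  simp only [Finset.mem_image]
  rintro _ ⟨p, hp, rfl⟩ _ ⟨q, hq, rfl⟩ _ ⟨r, hr, rfl⟩ h1 h2 h3
  obtain ⟨s, hs, a, b, c, d⟩ := h.2 p hp q hq r hr (fun e => h1 (e ▸ rfl)) (fun e => h2 (e ▸ rfl))
    (fun e => h3 (e ▸ rfl))
  refine ⟨g s, ⟨s, hs, rfl⟩, g.injective.ne a, g.injective.ne b, g.injective.ne c, ?_⟩
  have := mul_mem (mul_mem hg d) (inv_mem hg)
  rw [swap_apply_apply, swap_apply_apply]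
  simpa [mul_assoc] using this

theorem KB.move (h : KB H B) {p q : α} (hp : p ∈ B) (hq : q ∈ B) (e : p ≠ q) :
    ∃ g ∈ H, g p = q ∧ ∀ x, x ∉ B → g x = x := by
  obtain ⟨r, hr⟩ : ((B.erase p).erase q).Nonempty := by
    rw [← Finset.card_pos, Finset.card_erase_of_mem (Finset.mem_erase.2 ⟨e.symm, hq⟩),
      Finset.card_erase_of_mem hp, h.1]; norm_num
  simp only [Finset.mem_erase] at hr
  obtain ⟨s, hs, a, b, c, d⟩ := h.2 p hp q hq r hr.2.2 e hr.2.1.symm hr.1.symm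
  refine ⟨_, d, ?_, fun x hx => ?_⟩
  · rw [Perm.mul_apply, swap_apply_of_ne_of_ne hr.2.1.symm a.symm, swap_apply_left]
  · rw [Perm.mul_apply, swap_apply_of_ne_of_ne (x := x), swap_apply_of_ne_of_ne] <;> rintro rfl
    exacts [hx hp, hx hq, hx hr.2.2, hx hs]

theorem KB.exists_ne (h : KB H B) (p : α) : ∃ q ∈ B, q ≠ p :=
  Finset.exists_mem_ne (by rw [h.1]; norm_num) p

variable [Fintype α]

theorem KB.par (h : KB H B) (h3 : ∀ c ∈ H, ¬ c.IsThreeCycle) {p p' r r' : α} (d1 : p ≠ p')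
    (d2 : p ≠ r) (d4 : p' ≠ r) (d6 : r ≠ r')
    (hd : swap p p' * swap r r' ∈ H) (d3 : p ≠ r') (d5 : p' ≠ r') (e : p ∈ B ↔ p' ∈ B) (hr : r ∈ B) :
    r' ∈ B := by
  by_contra hr'
  by_cases hp : p ∈ B
  · obtain ⟨s, hs, -, -, c, d⟩ := h.2 p hp p' (e.1 hp) r hr d1 d2 d4
    have := mul_mem (inv_mem d) hd
    refine h3 _ ?_ (Perm.isThreeCycle_swap_mul_swap_same c.symm d6 fun e => hr' (e ▸ hs))
    simpa [mul_assoc] using this
  · obtain ⟨q, hq, hqr⟩ := h.exists_ne r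
    obtain ⟨g, hg, g1, g2⟩ := h.move hr hq hqr.symm
    refine h3 _ (mul_mem (mul_mem (mul_mem hg hd) (inv_mem hg)) (inv_mem hd))
      (Perm.isThreeCycle_commutator (a := r) (g1 ▸ hqr) ?_ fun x hx => ?_)
    · rw [Perm.mul_apply, swap_apply_left, swap_apply_of_ne_of_ne d3.symm d5.symm]; exact d6.symm
    · by_cases hxB : x ∈ B
      · right
        rw [Perm.mul_apply, swap_apply_of_ne_of_ne hx, swap_apply_of_ne_of_ne] <;> rintro rfl
        exacts [hp hxB, hp (e.2 hxB), hr' hxB]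
      · exact Or.inl (g2 x hxB)

omit [DecidableEq α] in
theorem triv_of_fix {L : Subgroup (Perm α)} [Group.IsPerfect L] (S : Finset α)
    (hS : Fintype.card α ≤ S.card + 4) (h : ∀ l ∈ L, ∀ x ∈ S, l x = x) : L = ⊥ := by
  classical
  refine eq_bot_iff.2 fun l hl => mem_bot.2 (Equiv.ext fun x => ?_)
  by_cases hx : x ∈ S
  · exact h l hl x hx
  · refine fix_of_perfect (G := L) Sᶜ (by rw [Finset.card_compl]; omega) (fun g y hy => ?_) ⟨l, hl⟩
      (Finset.mem_compl.2 hx)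
    refine Finset.mem_compl.2 fun hc => Finset.mem_compl.1 hy ?_
    have := h g g.2 _ hc
    rwa [← g.1.injective this]

omit [Fintype α] in
/-- the elements preserving each of the bipartitions given by a Klein four-set -/
def NB (H : Subgroup (Perm α)) : Subgroup (Perm α) where
  carrier := {h | h ∈ H ∧ ∀ B, KB H B → ∀ x y, (∃ C, KB H C ∧ x ∈ C) → (∃ C, KB H C ∧ y ∈ C) →
    ((x ∈ B ↔ y ∈ B) ↔ (h x ∈ B ↔ h y ∈ B))}
  one_mem' := ⟨one_mem _, fun _ _ _ _ _ _ => Iff.rfl⟩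
  mul_mem' := by
    rintro g h ⟨g1, g2⟩ ⟨h1, h2⟩
    refine ⟨mul_mem g1 h1, fun B hB x y ⟨C, hC, hx⟩ ⟨D, hD, hy⟩ =>
      (h2 B hB x y ⟨C, hC, hx⟩ ⟨D, hD, hy⟩).trans (g2 B hB _ _ ⟨_, hC.conj h1, ?_⟩ ⟨_, hD.conj h1, ?_⟩)⟩
    exacts [Finset.mem_image_of_mem _ hx, Finset.mem_image_of_mem _ hy]
  inv_mem' := by
    rintro g ⟨g1, g2⟩
    refine ⟨inv_mem g1, fun B hB x y ⟨C, hC, hx⟩ ⟨D, hD, hy⟩ => ?_⟩
    have := g2 B hB (g⁻¹ x) (g⁻¹ y) ⟨_, hC.conj (inv_mem g1), Finset.mem_image_of_mem _ hx⟩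
      ⟨_, hD.conj (inv_mem g1), Finset.mem_image_of_mem _ hy⟩
    simpa using this.symm

omit [Fintype α] in
theorem NB_conj {g h : Perm α} (hg : g ∈ H) (hh : h ∈ NB H) : g * h * g⁻¹ ∈ NB H := by
  refine ⟨mul_mem (mul_mem hg hh.1) (inv_mem hg), fun B hB x y ⟨C, hC, hx⟩ ⟨D, hD, hy⟩ => ?_⟩
  have := hh.2 _ (hB.conj (inv_mem hg)) (g⁻¹ x) (g⁻¹ y)
    ⟨_, hC.conj (inv_mem hg), Finset.mem_image_of_mem _ hx⟩
    ⟨_, hD.conj (inv_mem hg), Finset.mem_image_of_mem _ hy⟩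
  have e : ∀ z, z ∈ B.image (g⁻¹ : Perm α) ↔ g z ∈ B := fun z => by
    simp only [Finset.mem_image]
    exact ⟨by rintro ⟨a, ha, rfl⟩; simpa using ha, fun h => ⟨_, h, by simp⟩⟩
  rw [e, e, e, e] at this
  simpa using this

omit [Fintype α] in
theorem fix_of_le_NB {L : Subgroup (Perm α)} [hp : Group.IsPerfect L] (hL : L ≤ NB H) (hB : KB H B)
    {l : Perm α} (hl : l ∈ L) {x : α} (hx : x ∈ B) : l x = x := by
  refine fix_of_perfect (G := L) B hB.1.le (fun g y hy => ?_) ⟨l, hl⟩ hx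
  let φ : L →* ℤˣ := MonoidHom.mk' (fun l => if l.1 y ∈ B then 1 else -1) fun a b => by
    have := (hL a.2).2 B hB y (b.1 y) ⟨B, hB, hy⟩
      ⟨_, hB.conj (hL b.2).1, Finset.mem_image_of_mem _ hy⟩
    simp only [coe_mul, Perm.mul_apply]
    by_cases h1 : a.1 y ∈ B <;> by_cases h2 : b.1 y ∈ B <;> simp_all
  have : φ g = 1 := Abelianization.commutator_subset_ker φ Group.IsPerfect.mem_commutator
  by_contra h
  have h' : g.1 y ∉ B := h
  simp [φ, h'] at this

open FGS in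
theorem three_of_syl2 {m k : ℕ} (ι : Fin m × C2 ↪ α) (κ : Fin k × C2 ↪ Fin m) (hm : 4 ≤ m)
    (h1 : Fintype.card α ≤ 2 * m + 1) (h2 : m ≤ 2 * k + 1)
    (ht : ∀ i j, swap (ι (i, 1)) (ι (i, C2.t)) * swap (ι (j, 1)) (ι (j, C2.t)) ∈ H)
    (hK : ∀ j, KB H {ι (κ (j, 1), 1), ι (κ (j, 1), C2.t), ι (κ (j, C2.t), 1), ι (κ (j, C2.t), C2.t)})
    {L : Subgroup (Perm α)} (hLH : L ≤ H) (hn : ∀ h ∈ H, ∀ l ∈ L, h * l * h⁻¹ ∈ L)
    (hq : IsQuasisimple L) : ∃ c ∈ H, c.IsThreeCycle := by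
  by_contra! h3
  haveI := hq.1
  have t1 := C2.t_ne
  have t2 := C2.t_ne.symm
  have par : ∀ B, KB H B → ∀ i j, (ι (i, 1) ∈ B ↔ ι (i, C2.t) ∈ B) →
      (ι (j, 1) ∈ B ↔ ι (j, C2.t) ∈ B) := fun B hB i j e => by
    by_cases hij : i = j
    · exact hij ▸ e
    refine ⟨hB.par h3 (by simp [t2]) (by simp [hij]) (by simp [hij]) (by simp [t2]) (ht i j)
      (by simp [hij]) (by simp [hij]) e, hB.par h3 (by simp [t2]) (by simp [hij]) (by simp [hij])
      (by simp [t1]) (swap_comm (ι (j, 1)) _ ▸ ht i j) (by simp [hij]) (by simp [hij]) e⟩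
  rcases qs_dich hq (X := NB H) (fun x hx => hn x hx.1) (fun l hl x hx => NB_conj (hLH hl) hx)
    with hL | hL
  · refine qs_ne_bot hq (triv_of_fix (Finset.univ.map ((κ.prodMap (Function.Embedding.refl _)).trans ι))
      (by simp; omega) fun l hl x hx => ?_)
    obtain ⟨⟨⟨j, c⟩, d⟩, -, rfl⟩ := Finset.mem_map.1 hx
    refine fix_of_le_NB hL (hK j) hl ?_
    rcases C2.cases c with rfl | rfl <;> rcases C2.cases d with rfl | rfl <;> simp
  refine qs_ne_bot hq (triv_of_fix (Finset.univ.map ι) (by simp; omega) fun l hl x hx => ?_)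
  obtain ⟨⟨i, c⟩, -, rfl⟩ := Finset.mem_map.1 hx
  by_cases hA : ∀ B, KB H B → ∀ i, (ι (i, 1) ∈ B ↔ ι (i, C2.t) ∈ B)
  · haveI : Nontrivial (Fin m) := Fin.nontrivial_iff_two_le.mpr (by omega)
    obtain ⟨j, hj⟩ := exists_ne i
    have sw : ∀ B, KB H B → ∀ i x, swap (ι (i, 1)) (ι (i, C2.t)) x ∈ B ↔ x ∈ B := fun B hB i x => by
      have := hA B hB i
      rw [swap_apply_def]; split_ifs with a b
      · rw [a]; exact this.symm
      · rw [b]; exact this
      · rfl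
    have hN : swap (ι (i, 1)) (ι (i, C2.t)) * swap (ι (j, 1)) (ι (j, C2.t)) ∈ NB H :=
      ⟨ht i j, fun B hB x y _ _ => by simp only [Perm.mul_apply, sw B hB]⟩
    refine fix_of_perfect (G := L) _ (((Finset.card_le_card (Perm.support_mul_le _ _)).trans
      (Finset.card_union_le _ _)).trans ?_) (fun g x hx => supp_of_commute (hL _ hN g g.2) hx)
      ⟨l, hl⟩ (Perm.mem_support.2 ?_)
    · rw [Perm.card_support_swap (by simp [t2]), Perm.card_support_swap (by simp [t2])]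
    · rw [Perm.mul_apply, swap_apply_of_ne_of_ne (x := ι (i, c)) (by simp [hj.symm]) (by simp [hj.symm])]
      rcases C2.cases c with rfl | rfl <;> simp [t1, t2]
  push Not at hA
  have tr : ∀ B, KB H B → ∀ i, ¬ (ι (i, 1) ∈ B ↔ ι (i, C2.t) ∈ B) →
      m = 4 ∧ ∀ x ∈ B, x ∈ Set.range ι := fun B hB i e => by
    have a : ∀ j, ∃ c, ι (j, c) ∈ B := fun j => by
      by_contra! a
      exact e (par B hB j i (iff_of_false (a _) (a _)))
    choose f hf using a
    have b : Finset.univ.image (fun j => ι (j, f j)) ⊆ B := by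
      intro x hx
      obtain ⟨j, -, rfl⟩ := Finset.mem_image.1 hx
      exact hf j
    have c : (Finset.univ.image (fun j => ι (j, f j))).card = m := by
      rw [Finset.card_image_of_injective _ fun a b h => congrArg Prod.fst (ι.injective h)]
      simp
    have d := Finset.card_le_card b
    rw [c, hB.1] at d
    refine ⟨by omega, fun x hx => ?_⟩
    rw [← Finset.eq_of_subset_of_card_le b (by rw [c, hB.1]; omega)] at hx
    obtain ⟨j, -, rfl⟩ := Finset.mem_image.1 hx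
    exact ⟨_, rfl⟩
  obtain ⟨B0, hB0, i0, e0⟩ := hA
  obtain ⟨rfl, -⟩ := tr B0 hB0 i0 (by tauto)
  obtain ⟨τ, hτ, τ1, τ2, τ3⟩ : ∃ τ ∈ H, (∀ i, τ (ι (i, 1)) = ι (i, C2.t)) ∧
      (∀ i, τ (ι (i, C2.t)) = ι (i, 1)) ∧ ∀ x, x ∉ Set.range ι → τ x = x := by
    refine ⟨_, mul_mem (ht 0 1) (ht 2 3), fun i => ?_, fun i => ?_, fun x hx => ?_⟩
    · fin_cases i <;> simp [swap_apply_def, t1, t2]
    · fin_cases i <;> simp [swap_apply_def, t1, t2]
    · have : ∀ y, x ≠ ι y := fun y e => hx ⟨y, e.symm⟩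
      simp [swap_apply_def, this]
  have τ4 : ∀ x, x ∈ Set.range ι → τ x ≠ x ∧ τ (τ x) = x ∧ τ x ∈ Set.range ι := by
    rintro _ ⟨⟨i, c⟩, rfl⟩
    rcases C2.cases c with rfl | rfl <;> simp [τ1, τ2, t1, t2]
  have τ5 : ∀ B : Finset α, (∀ i, (ι (i, 1) ∈ B ↔ ι (i, C2.t) ∈ B)) → ∀ x, τ x ∈ B ↔ x ∈ B := fun B h x => by
    by_cases hx : x ∈ Set.range ι
    · obtain ⟨⟨i, c⟩, rfl⟩ := hx
      rcases C2.cases c with rfl | rfl <;> simp [τ1, τ2, h i]
    · rw [τ3 x hx]
  have hU : ∀ B, KB H B → ∀ x ∈ B, x ∈ Set.range ι := fun B hB z hz => by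
    by_cases hb : ι (0, 1) ∈ B ↔ ι (0, C2.t) ∈ B
    swap
    · exact (tr B hB 0 hb).2 z hz
    by_contra hz'
    have o : ∀ w, w ≠ z → w ∈ Set.range ι := fun w hw => by
      by_contra hw'
      have : insert w (insert z (Finset.univ.map ι)) ⊆ Finset.univ := Finset.subset_univ _
      have := Finset.card_le_card this
      rw [Finset.card_insert_of_notMem (by simpa [hw] using hw'),
        Finset.card_insert_of_notMem (by simpa using hz')] at this
      simp at this; omega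
    have c5 := τ5 B fun i => par B hB 0 i hb
    obtain ⟨w, hw, hwz⟩ := hB.exists_ne z
    obtain ⟨w1, w2, w3⟩ := τ4 w (o w hwz)
    have w4 : τ w ≠ z := fun e => hz' (e ▸ w3)
    obtain ⟨s, hs, s1, s2, s3, -⟩ := hB.2 z hz w hw (τ w) ((c5 w).2 hw) hwz.symm w4.symm w1.symm
    obtain ⟨s4, s5, s6⟩ := τ4 s (o s s1)
    have s7 : τ s ≠ z := fun e => hz' (e ▸ s6)
    have s8 : τ s ≠ w := fun e => s3 (by rw [← e, s5])
    have s9 : τ s ≠ τ w := τ.injective.ne s2
    have : ({τ s, s, τ w, w, z} : Finset α) ⊆ B := by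
      simp [Finset.insert_subset_iff, c5, hs, hw, hz]
    have := Finset.card_le_card this
    rw [hB.1] at this
    simp [Finset.card_insert_of_notMem, *] at this
  have hN : τ ∈ NB H := ⟨hτ, fun B hB x y ⟨C, hC, hx⟩ ⟨D, hD, hy⟩ => by
    by_cases hb : ι (0, 1) ∈ B ↔ ι (0, C2.t) ∈ B
    · simp only [τ5 B fun i => par B hB 0 i hb]
    · have c6 : ∀ x ∈ Set.range ι, τ x ∈ B ↔ x ∉ B := by
        rintro _ ⟨⟨i, c⟩, rfl⟩
        have := mt (par B hB i 0) hb
        rcases C2.cases c with rfl | rfl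
        · rw [τ1]; tauto
        · rw [τ2]; tauto
      rw [c6 x (hU C hC x hx), c6 y (hU D hD y hy)]
      tauto⟩
  have pr : ∀ g : L, ∀ i, g • ({ι (i, 1), ι (i, C2.t)} : Finset α) = {ι (i, 1), ι (i, C2.t)} := by
    intro g i
    refine fix_of_perfect (G := L) (Finset.univ.image fun i => ({ι (i, 1), ι (i, C2.t)} : Finset α))
      (Finset.card_image_le.trans (by simp)) (fun g s hs => ?_) g (Finset.mem_image_of_mem _ (by simp))
    obtain ⟨j, -, rfl⟩ := Finset.mem_image.1 hs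
    have c1 : g.1 (ι (j, C2.t)) = τ (g.1 (ι (j, 1))) := by
      rw [← τ1, ← Perm.mul_apply, ← (hL _ hN g g.2).eq, Perm.mul_apply]
    have c2 : g.1 (ι (j, 1)) ∈ Set.range ι := by
      by_contra c2
      rw [τ3 _ c2] at c1
      simpa [t1] using c1
    rw [Finset.smul_finset_insert, Finset.smul_finset_singleton]
    change {g.1 _, g.1 _} ∈ _
    rw [c1]
    obtain ⟨⟨j', c⟩, e⟩ := c2
    rw [← e]
    refine Finset.mem_image.2 ⟨j', by simp, ?_⟩
    rcases C2.cases c with rfl | rfl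
    · rw [τ1]
    · rw [τ2, Finset.pair_comm]
  refine fix_of_perfect (G := L) {ι (i, 1), ι (i, C2.t)} (Finset.card_le_two.trans (by norm_num))
    (fun g x hx => pr g i ▸ Finset.smul_mem_smul_finset hx) ⟨l, hl⟩ ?_
  rcases C2.cases c with rfl | rfl <;> simp

open FGS in
theorem alt_of_syl2 (h8 : 8 ≤ Fintype.card α) (H : Subgroup (Perm α))
    (hF : IsQuasisimple (generalizedFittingSubgroup H)) (P : Sylow 2 (Perm α))
    (hP : ↑P ⊓ alternatingGroup α ≤ H) :
    ∃ m : ℕ, Fintype.card α ≤ m + 3 ∧ m ≤ Fintype.card α ∧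
      Nonempty (generalizedFittingSubgroup H ≃* alternatingGroup (Fin m)) := by
  obtain ⟨T⟩ : Nonempty (Sylow 2 (Perm (Fin (Fintype.card α / 2)))) := inferInstance
  obtain ⟨ι, hι⟩ := FGS.sylow_struct P (by simp) T
  obtain ⟨T'⟩ : Nonempty (Sylow 2 (Perm (Fin (Fintype.card α / 2 / 2)))) := inferInstance
  obtain ⟨κ, hκ⟩ := FGS.sylow_struct T (by simp) T'
  obtain ⟨a1, a2, a3⟩ := fstar_data H
  have e := equivMapOfInjective (generalizedFittingSubgroup H) H.subtype H.subtype_injective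
  have hq := Comp2.quasisimple_of_mulEquiv hF e
  have t1 := C2.t_ne
  have t2 := C2.t_ne.symm
  have ht : ∀ i j, swap (ι (i, 1)) (ι (i, C2.t)) * swap (ι (j, 1)) (ι (j, C2.t)) ∈ H := fun i j =>
    hP ⟨mul_mem (hι ▸ swap_mem_wrMod i) (hι ▸ swap_mem_wrMod j), by
      simp [Perm.mem_alternatingGroup, t2]⟩
  have hK : ∀ j, KB H {ι (κ (j, 1), 1), ι (κ (j, 1), C2.t), ι (κ (j, C2.t), 1),
      ι (κ (j, C2.t), C2.t)} := fun j => by
    refine KB_of (by simp [t2]) (by simp [t2]) (by simp [t2]) (by simp [t2]) (by simp [t2])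
      (by simp [t2]) (ht _ _) (hP ⟨hι ▸ mem_wrMod.2 ⟨1, swap (κ (j, 1)) (κ (j, C2.t)),
        hκ ▸ swap_mem_wrMod j, fun i c => ?_, fun x hx => ?_⟩, by
          simp [Perm.mem_alternatingGroup, t2]⟩)
    · have : κ (j, 1) ≠ κ (j, C2.t) := by simp [t2]
      generalize κ (j, 1) = a at *
      generalize κ (j, C2.t) = b at *
      rcases C2.cases c with rfl | rfl <;>
        simp only [Perm.mul_apply, swap_apply_def, ι.injective.eq_iff, Prod.mk.injEq, t1, t2,
          and_false, and_true, if_false, Pi.one_apply, one_mul] <;>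
        split_ifs <;> simp_all
    · have : ∀ y, x ≠ ι y := fun y e => hx ⟨y, e.symm⟩
      simp [swap_apply_def, this]
  obtain ⟨g, hg, h3⟩ := three_of_syl2 ι κ (by omega) (by omega) (by omega) ht hK a1 a2 hq
  obtain ⟨Δ, h0, -, h1, ⟨e'⟩⟩ := alt_of_three a1 a2 a3 hq h3 hg
  refine ⟨Δ.card, ?_, Finset.card_le_univ _, ⟨e.trans e'⟩⟩
  have key : ∀ B, KB H B → B ⊆ Δ := fun B hB x hx => by
    by_contra hx'
    have a : ∀ y ∈ B, y ∉ Δ := fun y hy hy' => by
      obtain ⟨g, hg, g1, -⟩ := hB.move hy hx fun e => hx' (e ▸ hy')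
      exact hx' (g1 ▸ h1 g hg y hy')
    obtain ⟨q, hq, hqx⟩ := hB.exists_ne x
    obtain ⟨g, hg, g1, g2⟩ := hB.move hx hq hqx.symm
    have : g ∈ SymNil.Fx Δ ⊓ alternatingGroup α := h0 ▸ a3 g hg fun l hl => by
      refine Perm.Disjoint.commute fun y => ?_
      by_cases hy : y ∈ B
      · right
        by_contra c
        exact a y hy (SymNil.mem_Fx.1 (h0.le hl).1 (Perm.mem_support.2 c))
      · exact Or.inl (g2 y hy)
    exact hx' (SymNil.mem_Fx.1 this.1 (Perm.mem_support.2 (g1 ▸ hqx)))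
  have : Finset.univ.map ((κ.prodMap (Function.Embedding.refl _)).trans ι) ⊆ Δ := by
    intro x hx
    obtain ⟨⟨⟨j, c⟩, d⟩, -, rfl⟩ := Finset.mem_map.1 hx
    refine key _ (hK j) ?_
    rcases C2.cases c with rfl | rfl <;> rcases C2.cases d with rfl | rfl <;> simp
  have := Finset.card_le_card this
  simp only [Finset.card_map, Finset.card_univ, Fintype.card_prod, Fintype.card_fin,
    Fintype.card_multiplicative, ZMod.card] at this
  omega

end Cfsg.Agent.Mix26
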