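import Mathlib
import Cfsg.Agent.Mix26.ThreeCyc
import Cfsg.Agent.FGS.SymSyl3
import Cfsg.Agent.H23.AltSyl2

set_option autoImplicit false
open Cfsg Equiv Subgroup MulAction
open scoped Pointwise

namespace Cfsg.Agent.Mix26

abbrev C3 := Multiplicative (ZMod 3)

variable {α : Type*} [Fintype α] [DecidableEq α]

theorem three_mem_wrMod {β : Type*} [Finite β] (ι : β × C3 ↪ α) (T : Subgroup (Perm β))
    (i : β) (c : C3) : ∃ g ∈ FGS.wrMod ι T, g.IsThreeCycle ∧ g (ι (i, c)) ≠ ι (i, c) := by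
  classical
  let t : C3 := Multiplicative.ofAdd 1
  have hc : ∀ d : C3, d = c ∨ d = t * c ∨ d = t * (t * c) := by revert c; decide
  have h1 : ∀ c : C3, t * c ≠ c ∧ t * (t * c) ≠ c ∧ t * (t * (t * c)) = c := by decide
  have h2 := h1 c
  have h3 := h1 (t * c)
  refine ⟨swap (ι (i, c)) (ι (i, t * (t * c))) * swap (ι (i, c)) (ι (i, t * c)),
    FGS.mem_wrMod.2 ⟨fun j => if j = i then t else 1, 1, one_mem _, fun j d => ?_, fun x hx => ?_⟩,
    Perm.isThreeCycle_swap_mul_swap_same (by simp [h2.2.1.symm]) (by simp [h2.1.symm])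
      (by simp [h3.1]), ?_⟩
  · simp only [Perm.mul_apply, swap_apply_def, ι.injective.eq_iff, Prod.mk.injEq, Perm.one_apply]
    by_cases e : j = i
    · subst e
      rcases hc d with rfl | rfl | rfl
      · simp [h2.1, h3.1.symm]
      · simp [h2.1]
      · simp [h2.2.1, h3.1, h2.2.2]
    · simp [e]
  · rw [Perm.mul_apply, swap_apply_of_ne_of_ne (x := x), swap_apply_of_ne_of_ne] <;> rintro rfl <;>
      exact hx ⟨_, rfl⟩
  · rw [Perm.mul_apply, swap_apply_left, swap_apply_of_ne_of_ne] <;> simp [h2.1, h3.1.symm]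

theorem alt_of_syl3 (h5 : 5 ≤ Fintype.card α) (H : Subgroup (Perm α))
    (hF : IsQuasisimple (generalizedFittingSubgroup H)) (P : Sylow 3 (Perm α)) (hP : ↑P ≤ H) :
    ∃ m : ℕ, Fintype.card α ≤ m + 2 ∧ m ≤ Fintype.card α ∧
      Nonempty (generalizedFittingSubgroup H ≃* alternatingGroup (Fin m)) := by
  obtain ⟨T⟩ : Nonempty (Sylow 3 (Perm (Fin (Fintype.card α / 3)))) := inferInstance
  obtain ⟨ι, hι⟩ := FGS.sylow_struct P (by simp) T
  obtain ⟨a1, a2, a3⟩ := fstar_data H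
  have e := equivMapOfInjective (generalizedFittingSubgroup H) H.subtype H.subtype_injective
  obtain ⟨g, hg, h3, -⟩ := three_mem_wrMod ι T ⟨0, by omega⟩ 1
  obtain ⟨Δ, -, h1, -, ⟨e'⟩⟩ := alt_of_three a1 a2 a3 (Comp2.quasisimple_of_mulEquiv hF e) h3
    (hP (hι ▸ hg))
  refine ⟨Δ.card, ?_, Finset.card_le_univ _, ⟨e.trans e'⟩⟩
  have : Finset.univ.map ι ⊆ Δ := by
    intro x hx
    obtain ⟨⟨i, c⟩, -, rfl⟩ := Finset.mem_map.1 hx
    obtain ⟨g, hg, h3, h4⟩ := three_mem_wrMod ι T i c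
    exact h1 g (hP (hι ▸ hg)) h3 (Perm.mem_support.2 h4)
  have := Finset.card_le_card this
  simp only [Finset.card_map, Finset.card_univ, Fintype.card_prod, Fintype.card_fin,
    Fintype.card_multiplicative, ZMod.card] at this
  omega

omit [DecidableEq α] in
theorem exists_tripling (P : Sylow 3 (Perm α)) {β : Type*} [Finite β]
    (hβ : Nat.card α = 3 * Nat.card β) (T : Sylow 3 (Perm β)) :
    ∃ f : α → β, (∀ i, Nat.card {x // f x = i} = 3) ∧
      ∀ g ∈ (P : Subgroup (Perm α)), ∃ σ ∈ (T : Subgroup (Perm β)), ∀ x, f (g x) = σ (f x) := by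
  obtain ⟨ι, h⟩ := FGS.sylow_struct P (β := β) (by omega) T
  let e := Equiv.ofBijective ι ((Nat.bijective_iff_injective_and_card ι).mpr
    ⟨ι.injective, by rw [hβ, mul_comm]; simp⟩)
  refine ⟨fun x => (e.symm x).1, fun i => ?_, fun g hg => ?_⟩
  · rw [← Nat.card_congr (e.subtypeEquiv (p := fun y => y.1 = i) fun y => by simp)]
    rw [Nat.card_congr (⟨fun y => y.1.2, fun c => ⟨(i, c), rfl⟩,
      by rintro ⟨⟨_, _⟩, rfl⟩; rfl, fun _ => rfl⟩ : {y : β × C3 // y.1 = i} ≃ C3)]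
    simp
  · obtain ⟨f, σ, hσ, h1, -⟩ := FGS.mem_wrMod.mp (h ▸ hg)
    refine ⟨σ, hσ, fun x => ?_⟩
    obtain ⟨⟨i, c⟩, rfl⟩ := e.surjective x
    rw [show g (e (i, c)) = e (σ i, f i * c) from h1 i c]
    simp

/-- a three-cycle `u ↦ v ↦ w` -/
theorem exists_c3 {u v w : α} (h1 : u ≠ v) (h2 : u ≠ w) (h3 : v ≠ w) :
    ∃ c : alternatingGroup α, c.1 u = v ∧ c.1 v = w ∧ c.1 w = u ∧
      ∀ x, x ≠ u → x ≠ v → x ≠ w → c.1 x = x := by
  refine ⟨⟨swap u w * swap u v, (Perm.isThreeCycle_swap_mul_swap_same h2 h1 h3.symm).mem_alternatingGroup⟩,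
    ?_, ?_, ?_, fun x a b c => ?_⟩ <;> simp only [Perm.mul_apply, swap_apply_def] <;> grind

omit [Fintype α] [DecidableEq α] in
theorem stab_of {s : Set α} [Finite α] {g : Perm α} (h : ∀ x ∈ s, g x ∈ s) :
    g ∈ stabilizer (Perm α) s := by
  refine Set.eq_of_subset_of_ncard_le ?_ (by rw [Set.ncard_smul_set])
  rintro _ ⟨x, hx, rfl⟩
  exact h x hx

theorem two_max (P : Sylow 3 (Perm α)) (h5 : 5 ≤ Nat.card α) (h6 : Nat.card α ≠ 6)
    (h9 : Nat.card α ≠ 9) (h : ¬ ∃ a, 2 ≤ a ∧ Nat.card α = 3 ^ a + 1) :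
    ∃ M N : Subgroup (Perm α), ↑P ≤ M ∧ ↑P ≤ N ∧ IsCoatom (M.subgroupOf (alternatingGroup α)) ∧
      IsCoatom (N.subgroupOf (alternatingGroup α)) ∧
      ∃ c : alternatingGroup α, c.1 ∈ M ∧ c.1 ∉ N := by
  have st : ∀ s : Set α, s.Nonempty → sᶜ.Nonempty → Nat.card α ≠ 2 * s.ncard →
      IsCoatom ((stabilizer (Perm α) s).subgroupOf (alternatingGroup α)) :=
    fun s a b c => alternatingGroup.isCoatom_stabilizer a b c
  have third : ∀ a b c : α, ∃ d, d ≠ a ∧ d ≠ b ∧ d ≠ c := fun a b c => by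
    by_contra! h1
    have : (Finset.univ : Finset α) ⊆ {a, b, c} := fun x _ => by
      have := h1 x; simp only [Finset.mem_insert, Finset.mem_singleton]; tauto
    have := (Finset.card_le_card this).trans Finset.card_le_three
    rw [Finset.card_univ, ← Nat.card_eq_fintype_card] at this
    omega
  by_cases h3 : 3 ∣ Nat.card α
  · obtain ⟨m, hm⟩ := h3
    obtain ⟨T⟩ : Nonempty (Sylow 3 (Perm (Fin m))) := inferInstance
    obtain ⟨f, hf, h1⟩ := exists_tripling P (by rwa [Nat.card_fin]) T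
    haveI : Nontrivial (Fin m) := Fin.nontrivial_iff_two_le.mpr (by omega)
    have h2 : ↑P ≤ Max.PS f := fun g hg => (h1 g hg).elim fun σ h => Max.mem_PS_of σ h.2
    have c2 : IsCoatom ((Max.PS f).subgroupOf (alternatingGroup α)) := by
      have := Max.isCoatom_PS_alt hf (by norm_num) (by rw [← Nat.card_eq_fintype_card]; omega)
      rwa [inf_subgroupOf_right] at this
    have key : ∀ j k : Fin m, j ≠ k → ∃ c : alternatingGroup α, c.1 ∉ Max.PS f ∧
        ∀ x, c.1 x = x ∨ ((f x = j ∨ f x = k) ∧ (f (c.1 x) = j ∨ f (c.1 x) = k)) := fun j k hjk => by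
      obtain ⟨u, v, hu, hv, huv⟩ := Max.exists_pair_fib hf (by norm_num) j
      obtain ⟨w, hw, -⟩ := Max.exists_fib hf k ∅ (by simp)
      obtain ⟨c, c1, c2, c3, c4⟩ := exists_c3 huv (w := w) (by rintro rfl; exact hjk (hu ▸ hw))
        (by rintro rfl; exact hjk (hv ▸ hw))
      refine ⟨c, fun hc => hjk ?_, fun x => ?_⟩
      · have : f (c.1 u) = f (c.1 v) := (hc u v).1 (hu.trans hv.symm)
        rwa [c1, c2, hv, hw] at this
      · by_cases e1 : x = u
        · subst e1; right; rw [c1]; tauto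
        by_cases e2 : x = v
        · subst e2; right; rw [c2]; tauto
        by_cases e3 : x = w
        · subst e3; right; rw [c3]; tauto
        exact Or.inl (c4 x e1 e2 e3)
    by_cases h4 : 3 ∣ m
    · obtain ⟨l, hl⟩ := h4
      obtain ⟨T'⟩ : Nonempty (Sylow 3 (Perm (Fin l))) := inferInstance
      obtain ⟨f', hf', h4⟩ := exists_tripling T (by rwa [Nat.card_fin, Nat.card_fin]) T'
      haveI : Nontrivial (Fin l) := Fin.nontrivial_iff_two_le.mpr (by omega)
      have h7 := FGS.card_fiber_comp hf hf'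
      obtain ⟨i, -⟩ := exists_pair_ne (Fin l)
      obtain ⟨j, k, hj, hk, hjk⟩ := Max.exists_pair_fib hf' (by norm_num) i
      obtain ⟨c, c1, c3⟩ := key j k hjk
      refine ⟨Max.PS fun x => f' (f x), _, fun g hg => ?_, h2, ?_, c2, c,
        Max.mem_PS_of 1 fun x => ?_, c1⟩
      · obtain ⟨σ, hσ, h7⟩ := h1 g hg
        obtain ⟨τ, -, h8⟩ := h4 σ hσ
        exact Max.mem_PS_of τ fun x => by rw [h7, h8]
      · have := Max.isCoatom_PS_alt h7 (by norm_num) (by rw [← Nat.card_eq_fintype_card]; omega)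
        rwa [inf_subgroupOf_right] at this
      · rcases c3 x with e | ⟨e | e, e' | e'⟩ <;> simp [*]
    · obtain ⟨i, hi⟩ := T.isPGroup'.nonempty_fixed_point_of_prime_not_dvd_card (Fin m) (by simpa)
      obtain ⟨j, k, hj, hk, hjk⟩ : ∃ j k : Fin m, j ≠ i ∧ k ≠ i ∧ j ≠ k := by
        obtain ⟨j, hj, k, hk, hjk⟩ := Finset.one_lt_card.1
          (show 1 < (Finset.univ.erase i).card by simp; omega)
        exact ⟨j, k, Finset.ne_of_mem_erase hj, Finset.ne_of_mem_erase hk, hjk⟩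
      obtain ⟨c, c1, c3⟩ := key j k hjk
      obtain ⟨u, hu, -⟩ := Max.exists_fib hf i ∅ (by simp)
      obtain ⟨w, hw, -⟩ := Max.exists_fib hf j ∅ (by simp)
      refine ⟨stabilizer _ {x | f x = i}, _, fun g hg => stab_of fun x hx => ?_, h2,
        st _ ⟨u, hu⟩ ⟨w, fun e => hj (hw.symm.trans e)⟩ ?_, c2, c, stab_of fun x hx => ?_, c1⟩
      · obtain ⟨σ, hσ, h7⟩ := h1 g hg
        show f (g x) = i
        rw [h7, show f x = i from hx]
        exact hi ⟨σ, hσ⟩
      · rw [← Nat.card_coe_set_eq, show Nat.card {x | f x = i} = 3 from hf i]; omega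
      · rcases c3 x with e | ⟨e | e, -⟩
        · rwa [e]
        · exact absurd (e.symm.trans hx) hj
        · exact absurd (e.symm.trans hx) hk
  · obtain ⟨x, hx⟩ := P.isPGroup'.nonempty_fixed_point_of_prime_not_dvd_card α h3
    haveI : Nontrivial α := Finite.one_lt_card_iff_nontrivial.mp (by omega)
    obtain ⟨y, hy⟩ := exists_ne x
    set O := orbit (P : Subgroup (Perm α)) y with hO
    have h1 : x ∉ O := fun ⟨g, hg⟩ =>
      hy (by rw [← inv_smul_smul g y, show g • y = x from hg]; exact hx _)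
    obtain ⟨k, hk⟩ : ∃ k, O.ncard = 3 ^ k := P.isPGroup'.card_orbit y
    obtain ⟨z, h2, h4⟩ : ∃ z, z ∉ O ∧ z ≠ x := by
      by_contra! h2
      rw [show O = {x}ᶜ from Set.ext fun z => ⟨fun hz e => h1 (e ▸ hz),
        fun hz => by_contra fun h => hz (h2 z h)⟩, Set.ncard_compl, Set.ncard_singleton] at hk
      refine h ⟨k, ?_, by omega⟩
      by_contra h3
      interval_cases k <;> omega
    obtain ⟨a, ha, b, hb, h7, h8⟩ := Finset.exists_ne_map_eq_of_card_lt_of_maps_to (s := {x, z}ᶜ)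
      (t := (Finset.univ : Finset Prop)) (f := fun a => a ∈ O) (by
        rw [Finset.card_compl, Finset.card_pair h4.symm, ← Nat.card_eq_fintype_card, Finset.card_univ,
          Fintype.card_prop]; omega)
      fun _ _ => Finset.mem_univ _
    simp only [Finset.mem_compl, Finset.mem_insert, Finset.mem_singleton, not_or] at ha hb
    have h10 : swap x z * swap a b ∈ stabilizer (Perm α) O :=
      mul_mem (swap_mem_stabilizer.mpr (iff_of_false h1 h2)) (swap_mem_stabilizer.mpr (iff_of_eq h8))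
    have h11 : swap x z * swap a b ∈ alternatingGroup α := by
      simp [Perm.mem_alternatingGroup, h7, h4.symm]
    refine ⟨stabilizer _ O, stabilizer _ ({x} : Set α), FGS.le_stab_orbit _ y,
      fun g hg => stab_of fun w hw => ?_, st _ ⟨y, mem_orbit_self y⟩ ⟨x, h1⟩ ?_,
      st _ ⟨x, rfl⟩ ⟨y, hy⟩ (by rw [Set.ncard_singleton]; omega), ⟨_, h11⟩, h10, fun h12 => h4 ?_⟩
    · rw [show w = x from hw]; exact hx ⟨g, hg⟩
    · rw [hk]
      rcases k with _ | k
      · omega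
      · rw [pow_succ]; omega
    · have : (swap x z * swap a b) x ∈ ({x} : Set α) :=
        (mem_stabilizer_iff.1 h12).le (Set.smul_mem_smul_set rfl)
      rwa [Perm.mul_apply, swap_apply_of_ne_of_ne (Ne.symm ha.1) (Ne.symm hb.1), swap_apply_left]
        at this

theorem alt_three_minimal {n : ℕ} (hn : 5 ≤ n) (h : IsPMinimal 3 (alternatingGroup (Fin n))) :
    n = 6 ∨ n = 9 ∨ ∃ a : ℕ, 2 ≤ a ∧ n = 3 ^ a + 1 := by
  by_contra! h1
  obtain ⟨P⟩ : Nonempty (Sylow 3 (Perm (Fin n))) := inferInstance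
  have hP : (P : Subgroup (Perm (Fin n))) ≤ alternatingGroup (Fin n) := fun g hg => by
    obtain ⟨k, hk⟩ := (IsPGroup.iff_orderOf.1 P.isPGroup') ⟨g, hg⟩
    rw [← orderOf_coe] at hk
    exact FGS.sign_eq_one_of_odd (hk ▸ Odd.pow (by decide))
  obtain ⟨M, N, a1, a2, a3, a4, c, c1, c2⟩ := two_max P (by simpa) (by simpa using h1.1)
    (by simpa using h1.2.1) (by simpa using h1.2.2)
  obtain ⟨-, X, -, hX⟩ := h (P.subtype hP)
  have e := (hX _ ⟨a3, subgroupOf_mono _ a1⟩).trans (hX _ ⟨a4, subgroupOf_mono _ a2⟩).symm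
  exact c2 (e.le c1)

theorem fstar_top {X : Type*} [Group X] [Finite X] (hX : IsPMinimal 3 X) {n : ℕ} (hn : 5 ≤ n)
    (e : generalizedFittingSubgroup X ≃* alternatingGroup (Fin n)) :
    generalizedFittingSubgroup X = ⊤ := by
  set L := generalizedFittingSubgroup X with hL
  obtain ⟨S⟩ : Nonempty (Sylow 3 X) := inferInstance
  have hS : (S : Subgroup X) ≤ L := fun s hs => by
    obtain ⟨k, hk⟩ := (IsPGroup.iff_orderOf.1 S.isPGroup') ⟨s, hs⟩
    rw [← orderOf_coe] at hk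
    let φ : X →* MulAut (alternatingGroup (Fin n)) :=
      (MulAut.congr e).toMonoidHom.comp MulAut.conjNormal
    have h1 : Odd (orderOf (φ s)) :=
      Odd.of_dvd_nat (hk ▸ Odd.pow (by decide)) (orderOf_map_dvd φ s)
    obtain ⟨σ, hσ⟩ := H23.AltSyl.mem_range_odd hn _ h1
    have h2 : Odd (orderOf σ) := by
      rwa [← hσ, orderOf_injective _ (H23.AltSyl.conjNormal_inj hn)] at h1
    let l : L := e.symm ⟨σ, FGS.sign_eq_one_of_odd h2⟩
    have h3 : (l : X)⁻¹ * s ∈ L := by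
      refine Comp2.centralizer_genFitting_le fun y hy => ?_
      have h4 : φ s (e ⟨y, hy⟩) = e (l * ⟨y, hy⟩ * l⁻¹) := by
        rw [← hσ]; ext1; simp [l]
      have h5 : MulAut.conjNormal s (⟨y, hy⟩ : L) = l * ⟨y, hy⟩ * l⁻¹ := by
        apply e.injective
        simpa [φ] using h4
      have h6 : s * y * s⁻¹ = l * y * (l : X)⁻¹ := congrArg Subtype.val h5
      calc y * ((l : X)⁻¹ * s) = (l : X)⁻¹ * (l * y * (l : X)⁻¹) * s := by group
        _ = (l : X)⁻¹ * s * y := by rw [← h6]; group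
    simpa using mul_mem l.2 h3
  by_contra hne
  obtain ⟨h1, M, -, hM⟩ := hX S
  obtain ⟨M1, a1, b1⟩ := (eq_top_or_exists_le_coatom L).resolve_left hne
  obtain ⟨M2, a2, b2⟩ := (eq_top_or_exists_le_coatom (normalizer ((S : Subgroup X) : Set X))).resolve_left
    fun h => h1 (normalizer_eq_top_iff.1 h)
  have e1 := (hM _ ⟨a1, hS.trans b1⟩).trans (hM _ ⟨a2, le_normalizer.trans b2⟩).symm
  have := Sylow.normalizer_sup_eq_top' S hS
  exact a1.1 (eq_top_iff.2 (this ▸ sup_le (e1 ▸ b2) b1))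

end Cfsg.Agent.Mix26
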